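import Groth.Agent.RigidDef.Torsor

/-!
Extensions of a deformation of an affine scheme are lifts of its algebra.
-/

set_option autoImplicit false
set_option linter.style.haveILetI false
set_option backward.isDefEq.respectTransparency false
universe u
open CategoryTheory CategoryTheory.Limits AlgebraicGeometry TensorProduct

noncomputable section

namespace Groth.Agent.RigidDef

open ArtFun ArtFun.Art

variable {k B₀ : Type u} [Field k] [CommRing B₀] [Algebra k B₀]

/-- the algebraic input attached to a model and a semismall extension -/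
@[reducible] def smallOf {C' C : Art k k} (p : C' ⟶ C) (hp : Art.IsSemismallExt p) (M : DefFun.Model B₀ C) :
    Small k B₀ :=
  letI := M.φ.toAlgebra
  { R' := C'.carrier
    R := C.carrier
    p := p.toAlgHom.toRingHom
    p_surj := hp.1
    e := C.res.toRingHom
    e_ker := DefFun.ker_res C
    e_alg := fun c => (congrArg C.res (p.toAlgHom.commutes c)).trans (C.res.commutes c)
    small := hp.2
    T := M.T
    flatT := M.flat
    q := M.q
    q_surj := M.surj
    q_ker := M.ker
    q_alg := fun a => RingHom.congr_fun M.w a }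

variable {C' C : Art k k} {p : C' ⟶ C} {hp : Art.IsSemismallExt p} {M : DefFun.Model B₀ C}
variable {𝒳 : DefSch (Spec (CommRingCat.of B₀)) (Spec.map (CommRingCat.ofHom (algebraMap k B₀))) C}
variable (δ : M.sch.Iso 𝒳)

variable (p) in
/-- the extensions -/
abbrev Pairs (𝒳 : DefSch (Spec (CommRingCat.of B₀)) (Spec.map (CommRingCat.ofHom (algebraMap k B₀))) C) : Type (u + 1) :=
  Σ 𝒳' : DefSch (Spec (CommRingCat.of B₀)) (Spec.map (CommRingCat.ofHom (algebraMap k B₀))) C',
    (𝒳'.baseChange p).Iso 𝒳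

/-- the equivalence of extensions -/
abbrev PairRel (a b : Pairs p 𝒳) : Prop :=
  ∃ ψ : a.1.Iso b.1, ((ψ.baseChange p).trans b.2).iso = a.2.iso

/-- the closed immersion of the deformation into an extension -/
abbrev jmap' (a : Pairs p 𝒳) : 𝒳.total ⟶ a.1.total := a.2.iso.inv ≫ pullback.fst a.1.f (specMap p)

theorem pairRel_iff (a b : Pairs p 𝒳) :
    PairRel a b ↔ ∃ ψ : a.1.Iso b.1, jmap' a ≫ ψ.iso.hom = jmap' b := by
  refine exists_congr fun ψ => ?_
  let P := DefSch.pullMap ψ.iso.hom ψ.hom_f p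
  have h0 : ((ψ.baseChange p).trans b.2).iso = a.2.iso ↔ P ≫ b.2.iso.hom = a.2.iso.hom :=
    ⟨fun h => congrArg Iso.hom h, fun h => Iso.ext h⟩
  rw [h0, ← Iso.eq_comp_inv]
  constructor
  · intro h
    show (a.2.iso.inv ≫ pullback.fst _ _) ≫ ψ.iso.hom = b.2.iso.inv ≫ pullback.fst _ _
    rw [Category.assoc, ← DefSch.pullMap_fst ψ.iso.hom ψ.hom_f p, show DefSch.pullMap ψ.iso.hom ψ.hom_f p = P from rfl,
      h, Category.assoc, Iso.inv_hom_id_assoc]
  · intro h
    apply pullback.hom_ext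
    · rw [DefSch.pullMap_fst, Category.assoc]
      have h' := congrArg (a.2.iso.hom ≫ ·) h
      dsimp only [jmap'] at h'
      rw [Category.assoc, Iso.hom_inv_id_assoc] at h'
      exact h'
    · rw [DefSch.pullMap_snd, Category.assoc]
      have e1 : b.2.iso.inv ≫ pullback.snd b.1.f (specMap p) = 𝒳.f := by
        rw [Iso.inv_comp_eq]; exact b.2.hom_f.symm
      rw [e1]
      exact a.2.hom_f.symm

/-- a lift presents an extension -/
def Rep (a : Pairs p 𝒳) (L : (smallOf p hp M).Lft) : Prop :=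
  ∃ θ : Spec (CommRingCat.of L.T') ≅ a.1.total, θ.hom ≫ a.1.f = Spec.map (CommRingCat.ofHom L.φ) ∧
    Spec.map (CommRingCat.ofHom L.m) ≫ θ.hom = δ.iso.hom ≫ jmap' a

theorem exists_rep (a : Pairs p 𝒳) : ∃ L : (smallOf p hp M).Lft, Rep δ a L := by
  obtain ⟨N, hN⟩ := DefFun.exists_model a.1.cl
  obtain ⟨θ⟩ := Quotient.exact hN
  obtain ⟨m, hm⟩ := Spec.map_surjective (R := CommRingCat.of N.T) (S := CommRingCat.of M.T)
    (δ.iso.hom ≫ jmap' a ≫ θ.iso.inv)
  have hθm : Spec.map m ≫ θ.iso.hom = δ.iso.hom ≫ jmap' a := by rw [hm]; simp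
  have hmφ : m.hom.comp N.φ = M.φ.comp p.toAlgHom.toRingHom := by
    have h1 : Spec.map m ≫ Spec.map (CommRingCat.ofHom N.φ) = Spec.map (CommRingCat.ofHom M.φ) ≫ specMap p := by
      rw [show Spec.map (CommRingCat.ofHom N.φ) = θ.iso.hom ≫ a.1.f from θ.hom_f.symm, ← Category.assoc, hθm]
      simp only [jmap', Category.assoc]
      rw [pullback.condition, ← Category.assoc a.2.iso.inv]
      rw [show a.2.iso.inv ≫ pullback.snd a.1.f (specMap p) = 𝒳.f by rw [Iso.inv_comp_eq]; exact a.2.hom_f.symm]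
      rw [← Category.assoc, δ.hom_f]
    rw [← Spec.map_comp, ← Spec.map_comp] at h1
    exact congrArg CommRingCat.Hom.hom (Spec.map_injective h1)
  have hmq : M.q.comp m.hom = N.q := by
    have h1 : Spec.map (CommRingCat.ofHom M.q) ≫ Spec.map m = Spec.map (CommRingCat.ofHom N.q) := by
      rw [← cancel_mono θ.iso.hom, Category.assoc, hθm,
        show Spec.map (CommRingCat.ofHom N.q) ≫ θ.iso.hom = a.1.i from θ.i_hom, ← Category.assoc,
        show Spec.map (CommRingCat.ofHom M.q) ≫ δ.iso.hom = 𝒳.i from δ.i_hom]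
      simp only [jmap']
      rw [← Category.assoc, show 𝒳.i ≫ a.2.iso.inv = (a.1.baseChange p).i by rw [Iso.comp_inv_eq]; exact a.2.i_hom.symm]
      exact DefSch.baseChange_i_fst _ _
    rw [← Spec.map_comp] at h1
    exact congrArg CommRingCat.Hom.hom (Spec.map_injective h1)
  have hsurj : Function.Surjective m.hom := by
    haveI : IsClosedImmersion (specMap p) := IsClosedImmersion.spec_of_surjective _ hp.1
    haveI : IsClosedImmersion (Spec.map (CommRingCat.ofHom m.hom)) := by
      rw [CommRingCat.ofHom_hom, hm]; infer_instance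
    exact LCIDef.surjective_of_closedImmersion m.hom
  let J := RingHom.ker p.toAlgHom.toRingHom
  have hker : RingHom.ker m.hom = J.map N.φ := by
    refine le_antisymm ?_ ?_
    · letI := M.φ.toAlgebra
      haveI : Module.Flat C.carrier M.T := M.flat
      let mk' := Ideal.Quotient.mk (J.map N.φ)
      let φ'' : C.carrier →+* N.T ⧸ J.map N.φ := p.toAlgHom.toRingHom.liftOfSurjective hp.1
        ⟨mk'.comp N.φ, fun j hj => RingHom.mem_ker.mpr (Ideal.Quotient.eq_zero_iff_mem.mpr (Ideal.mem_map_of_mem _ hj))⟩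
      have hφ'' : φ''.comp p.toAlgHom.toRingHom = mk'.comp N.φ := RingHom.ext fun a => by
        simp only [φ'', RingHom.comp_apply]
        exact (LCIDef.lift_apply _ hp.1 _ a).trans rfl
      letI : Algebra C.carrier (N.T ⧸ J.map N.φ) := φ''.toAlgebra
      have hJm : J.map N.φ ≤ RingHom.ker m.hom := by
        rw [Ideal.map_le_iff_le_comap]
        intro j hj
        rw [Ideal.mem_comap, RingHom.mem_ker, ← RingHom.comp_apply, hmφ, RingHom.comp_apply,
          RingHom.mem_ker.1 hj, map_zero]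
      let h : (N.T ⧸ J.map N.φ) →ₐ[C.carrier] M.T :=
        { Ideal.Quotient.lift (J.map N.φ) m.hom hJm with
          commutes' := fun c => by
            obtain ⟨c, rfl⟩ := hp.1 c
            show Ideal.Quotient.lift (J.map N.φ) m.hom hJm ((φ''.comp p.toAlgHom.toRingHom) c) = _
            rw [hφ'']
            exact RingHom.congr_fun hmφ c }
      have hJN : ∀ x ∈ J.map N.φ, N.q x = 0 := fun x hx => by
        rw [← hmq, RingHom.comp_apply, RingHom.mem_ker.1 (hJm hx), map_zero]
      let q'' : N.T ⧸ J.map N.φ →+* B₀ := Ideal.Quotient.lift _ N.q hJN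
      have hbij : Function.Bijective h := DefFun.bijective_of_fibre
        (ArtFlat.isNilpotent_maximalIdeal (A := C.carrier)) h q'' M.q
        (fun b => by obtain ⟨t, rfl⟩ := N.surj b; exact ⟨mk' t, rfl⟩)
        (fun t => by
          obtain ⟨t, rfl⟩ := Ideal.Quotient.mk_surjective t
          exact RingHom.congr_fun hmq t)
        (fun t ht => by
          obtain ⟨t, rfl⟩ := Ideal.Quotient.mk_surjective t
          have h1 : t ∈ (IsLocalRing.maximalIdeal C'.carrier).map N.φ := N.ker ▸ ht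
          have h2 := Ideal.mem_map_of_mem mk' h1
          rw [Ideal.map_map, ← hφ'', ← Ideal.map_map] at h2
          refine Ideal.map_mono ?_ h2
          rw [Ideal.map_le_iff_le_comap]
          intro a ha
          rw [Ideal.mem_comap, C.mem_maximalIdeal_iff]
          exact (res_app p a).trans ((C'.mem_maximalIdeal_iff a).1 ha))
        M.ker
      intro x hx
      rw [← Ideal.Quotient.eq_zero_iff_mem]
      exact hbij.1 ((RingHom.mem_ker.1 hx).trans (map_zero h).symm)
    · rw [Ideal.map_le_iff_le_comap]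
      intro j hj
      rw [Ideal.mem_comap, RingHom.mem_ker, ← RingHom.comp_apply, hmφ, RingHom.comp_apply,
        RingHom.mem_ker.1 hj, map_zero]
  exact ⟨{ T' := N.T, φ := N.φ, flat := N.flat, m := m.hom, m_surj := hsurj,
           m_φ := fun a => RingHom.congr_fun hmφ a, m_ker := hker }, θ.iso, θ.hom_f, hθm⟩

theorem rep_rel_iff {a b : Pairs p 𝒳} {L L' : (smallOf p hp M).Lft} (ha : Rep δ a L) (hb : Rep δ b L') :
    PairRel a b ↔ L'.Rel L := by
  obtain ⟨θ, hθf, hθm⟩ := ha
  obtain ⟨θ', hθf', hθm'⟩ := hb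
  rw [pairRel_iff]
  constructor
  · rintro ⟨ψ, hψ⟩
    obtain ⟨g, hg⟩ := Spec.map_surjective (R := CommRingCat.of L'.T') (S := CommRingCat.of L.T')
      (θ.hom ≫ ψ.iso.hom ≫ θ'.inv)
    refine ⟨g.hom, fun c => ?_, fun x => ?_⟩
    · have h1 : Spec.map g ≫ Spec.map (CommRingCat.ofHom L'.φ) = Spec.map (CommRingCat.ofHom L.φ) := by
        rw [hg, ← hθf, ← hθf']
        simp only [Category.assoc, Iso.inv_hom_id_assoc, ψ.hom_f]
      rw [← Spec.map_comp] at h1
      exact RingHom.congr_fun (congrArg CommRingCat.Hom.hom (Spec.map_injective h1)) c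
    · have h1 : Spec.map (CommRingCat.ofHom L.m) ≫ Spec.map g = Spec.map (CommRingCat.ofHom L'.m) := by
        rw [← cancel_mono θ'.hom, hg, hθm']
        simp only [Category.assoc, Iso.inv_hom_id, Category.comp_id]
        rw [← Category.assoc, hθm, Category.assoc, hψ]
      rw [← Spec.map_comp] at h1
      exact RingHom.congr_fun (congrArg CommRingCat.Hom.hom (Spec.map_injective h1)) x
  · rintro ⟨g, hgφ, hgm⟩
    let e : Spec (CommRingCat.of L.T') ≅ Spec (CommRingCat.of L'.T') :=
      Scheme.Spec.mapIso (RingEquiv.ofBijective g (Small.Lft.Rel.bijective g hgφ hgm)).toCommRingCatIso.op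
    have he : e.hom = Spec.map (CommRingCat.ofHom g) := rfl
    have hjb : jmap' a ≫ θ.inv ≫ Spec.map (CommRingCat.ofHom g) ≫ θ'.hom = jmap' b := by
      rw [← cancel_epi δ.iso.hom, ← Category.assoc δ.iso.hom, ← hθm]
      simp only [Category.assoc, Iso.hom_inv_id_assoc]
      rw [← Category.assoc, ← Spec.map_comp, show CommRingCat.ofHom g ≫ CommRingCat.ofHom L.m =
        CommRingCat.ofHom L'.m from CommRingCat.hom_ext (RingHom.ext hgm), hθm']
    refine ⟨⟨θ.symm ≪≫ e ≪≫ θ', ?_, ?_⟩, ?_⟩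
    · show (θ.inv ≫ e.hom ≫ θ'.hom) ≫ b.1.f = a.1.f
      rw [Category.assoc, Category.assoc, hθf', he, ← Spec.map_comp, show CommRingCat.ofHom L'.φ ≫
        CommRingCat.ofHom g = CommRingCat.ofHom L.φ from CommRingCat.hom_ext (RingHom.ext hgφ), ← hθf,
        Iso.inv_hom_id_assoc]
    · show a.1.i ≫ θ.inv ≫ e.hom ≫ θ'.hom = b.1.i
      have hi : ∀ c : Pairs p 𝒳, 𝒳.i ≫ jmap' c = c.1.i := fun c => by
        simp only [jmap']
        rw [← Category.assoc, show 𝒳.i ≫ c.2.iso.inv = (c.1.baseChange p).i by rw [Iso.comp_inv_eq]; exact c.2.i_hom.symm]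
        exact DefSch.baseChange_i_fst _ _
      rw [← hi a, ← hi b, he, Category.assoc, hjb]
    · show jmap' a ≫ θ.inv ≫ e.hom ≫ θ'.hom = jmap' b
      rw [he, hjb]

theorem exists_pair (L : (smallOf p hp M).Lft) : ∃ a : Pairs p 𝒳, Rep δ a L := by
  let N : DefFun.Model B₀ C' :=
    { T := L.T'
      φ := L.φ
      flat := L.flat
      q := L.qm
      surj := L.qm_surj
      ker := L.qm_ker
      w := RingHom.ext fun a => (L.qm_φ a).trans (congrArg (algebraMap k B₀) (res_app p a)) }
  have H : IsPullback (Spec.map (CommRingCat.ofHom L.m)) (Spec.map (CommRingCat.ofHom M.φ))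
      N.sch.f (specMap p) :=
    isPullback_SpecMap_of_isPushout _ _ _ _
      (LCIDef.isPushout_of_ker _ _ _ _ hp.1 L.m_surj L.m_ker (RingHom.ext L.m_φ))
  let α₀ := (IsPullback.of_hasPullback N.sch.f (specMap p)).isoIsPullback _ _ H
  have hα₀i : (N.sch.baseChange p).i ≫ α₀.hom = M.sch.i := by
    apply H.hom_ext
    · rw [Category.assoc, IsPullback.isoIsPullback_hom_fst, DefSch.baseChange_i_fst]
      show Spec.map _ = Spec.map _ ≫ Spec.map _
      rw [← Spec.map_comp]
      rfl
    · rw [Category.assoc, IsPullback.isoIsPullback_hom_snd, DefSch.baseChange_i_f]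
      exact M.sch.i_f.symm
  let α : (N.sch.baseChange p).Iso M.sch := ⟨α₀, IsPullback.isoIsPullback_hom_snd _ _ _ _, hα₀i⟩
  refine ⟨⟨N.sch, α.trans δ⟩, Iso.refl _, Category.id_comp _, ?_⟩
  show Spec.map (CommRingCat.ofHom L.m) ≫ 𝟙 _ = δ.iso.hom ≫ (δ.iso.inv ≫ α₀.inv) ≫ pullback.fst _ _
  rw [Category.comp_id, Category.assoc, Iso.hom_inv_id_assoc, Iso.eq_inv_comp]
  exact IsPullback.isoIsPullback_hom_fst _ _ _ _

variable (p) in
theorem nonempty_equiv_T1 (hp : Art.IsSemismallExt p) {ι σ : Type u} (P : Algebra.Presentation k B₀ ι σ)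
    (𝒳 : DefSch (Spec (CommRingCat.of B₀)) (Spec.map (CommRingCat.ofHom (algebraMap k B₀))) C)
    (hne : Nonempty (Pairs p 𝒳)) :
    Nonempty (Quot (PairRel (p := p) (𝒳 := 𝒳)) ≃ CotT.T1 P (B₀ ⊗[k] ↥(RingHom.ker p.toAlgHom))) := by
  obtain ⟨M, hM⟩ := DefFun.exists_model 𝒳.cl
  obtain ⟨δ⟩ := Quotient.exact hM
  choose G hG using fun a : Pairs p 𝒳 => exists_rep (hp := hp) δ a
  obtain ⟨a₀⟩ := hne
  obtain ⟨v₀, hv₀⟩ := Small.exists_coord P (G a₀)
  obtain ⟨F, hF, hFs⟩ := Small.exists_classify P (G a₀) v₀ hv₀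
  let f : Quot (PairRel (p := p) (𝒳 := 𝒳)) → CotT.T1 P (B₀ ⊗[k] ↥(RingHom.ker p.toAlgHom)) :=
    Quot.lift (fun a => F (G a)) fun a b h => ((hF _ _).2 ((rep_rel_iff δ (hG a) (hG b)).1 h)).symm
  refine ⟨Equiv.ofBijective f ⟨fun x y h => ?_, fun t => ?_⟩⟩
  · induction x using Quot.ind with
    | mk a => induction y using Quot.ind with
      | mk b => exact Quot.sound ((rep_rel_iff δ (hG a) (hG b)).2 ((hF _ _).1 h.symm))
  · obtain ⟨L, hL⟩ := hFs t
    obtain ⟨a, ha⟩ := exists_pair δ L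
    refine ⟨Quot.mk _ a, ?_⟩
    show F (G a) = t
    rw [← hL]
    have hrefl : PairRel a a := (pairRel_iff a a).2 ⟨DefSch.Iso.refl _, Category.comp_id _⟩
    exact ((hF _ _).2 ((rep_rel_iff δ (hG a) ha).1 hrefl)).symm

end Groth.Agent.RigidDef
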