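import Groth.Agent.RigidDef.ObsT2
import Groth.Agent.RigidDef.Extensions
import Groth.Agent.ArtFib.Basic
import Groth.Prelude.Def_ArtFun3

/-!
`T²` carries an obstruction theory of the deformation functor of an affine algebra.
-/

set_option autoImplicit false
set_option linter.style.haveILetI false
universe u
open CategoryTheory CategoryTheory.Limits AlgebraicGeometry IsLocalRing TensorProduct MvPolynomial CotT ArtFun

noncomputable section

namespace Groth.Agent.RigidDef

variable {k B₀ : Type u} [Field k] [CommRing B₀] [Algebra k B₀] {ι σ : Type u} [Fintype σ]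
  (P : Algebra.Presentation k B₀ ι σ)

theorem isSemismall_id (C : Art k k) : Art.IsSemismallExt (𝟙 C) := by
  refine ⟨fun a => ⟨a, rfl⟩, ?_⟩
  rw [show RingHom.ker (𝟙 C : C ⟶ C).toAlgHom = ⊥ from (RingHom.injective_iff_ker_eq_bot _).1 fun a b h => h,
    Ideal.mul_bot]

/-- the base of a model as a trivial extension -/
@[reducible] def small₀ {C : Art k k} (M : DefFun.Model B₀ C) : Small k B₀ := smallOf (𝟙 C) (isSemismall_id C) M

/-- chosen lifted equations of a model -/
def eqns {C : Art k k} (M : DefFun.Model B₀ C) : σ → MvPolynomial ι C.carrier :=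
  ((small₀ M).exists_eqns P).choose

theorem isEqns {C' C : Art k k} (p : C' ⟶ C) (hp : Art.IsSemismallExt p) (M : DefFun.Model B₀ C) :
    Small.IsEqns P (smallOf p hp M) (eqns P M) :=
  ((small₀ M).exists_eqns P).choose_spec

theorem Small.lam_add (S : Small k B₀) (ℓ ℓ' : Module.Dual k S.J) {x : MvPolynomial ι S.R'} (hx : S.p₁ x = 0) :
    S.lam (ℓ + ℓ') x = S.lam ℓ x + S.lam ℓ' x := by
  refine S.ker_induction (motive := fun x => S.lam (ℓ + ℓ') x = S.lam ℓ x + S.lam ℓ' x) (fun a j => ?_) (by simp)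
    (fun x y h h' => by simp only [map_add, h, h']; abel) hx
  rw [S.lam_mul_C, S.lam_mul_C, S.lam_mul_C, LinearMap.add_apply, map_add, add_mul]

theorem Small.lam_smul (S : Small k B₀) (c : k) (ℓ : Module.Dual k S.J) {x : MvPolynomial ι S.R'} (hx : S.p₁ x = 0) :
    S.lam (c • ℓ) x = C c * S.lam ℓ x := by
  refine S.ker_induction (motive := fun x => S.lam (c • ℓ) x = C c * S.lam ℓ x) (fun a j => ?_) (by simp)
    (fun x y h h' => by simp only [map_add, h, h']; rw [mul_add]) hx
  rw [S.lam_mul_C, S.lam_mul_C, LinearMap.smul_apply, smul_eq_mul, map_mul, mul_assoc]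

section
variable {C' C'' C : Art k k} (p : C' ⟶ C) (hp : Art.IsSemismallExt p) (M : DefFun.Model B₀ C)

theorem exists_lifts : ∃ F₀ : σ → MvPolynomial ι (smallOf p hp M).R', (smallOf p hp M).p₁ ∘ F₀ = eqns P M := by
  choose F₀ h using fun s => (smallOf p hp M).p₁_surj (eqns P M s)
  exact ⟨F₀, funext h⟩

/-- chosen lifts of the equations -/
def lifts : σ → MvPolynomial ι (smallOf p hp M).R' := (exists_lifts P p hp M).choose

theorem p₁_lifts : (smallOf p hp M).p₁ ∘ lifts P p hp M = eqns P M := (exists_lifts P p hp M).choose_spec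

/-- the obstruction functional -/
def psi (ℓ : Module.Dual k (smallOf p hp M).J) : L2 P →ₗ[B₀] B₀ :=
  ((smallOf p hp M).exists_good (ℓ := ℓ) (isEqns P p hp M) (p₁_lifts P p hp M)).choose

theorem good_psi (ℓ : Module.Dual k (smallOf p hp M).J) :
    (smallOf p hp M).Good (eqns P M) ℓ (lifts P p hp M) (psi P p hp M ℓ) :=
  ((smallOf p hp M).exists_good (ℓ := ℓ) (isEqns P p hp M) (p₁_lifts P p hp M)).choose_spec

/-- the obstruction seen through linear forms on the kernel -/
def ob : Module.Dual k (smallOf p hp M).J →ₗ[k] T2 P B₀ where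
  toFun ℓ := toT2 P B₀ (psi P p hp M ℓ)
  map_add' ℓ ℓ' := by
    let S := smallOf p hp M
    rw [← map_add]
    refine congrArg _ (S.good_unique (isEqns P p hp M) (p₁_lifts P p hp M) (good_psi P p hp M _) ?_)
    intro R' hR hc
    rw [LinearMap.add_apply, good_psi P p hp M ℓ R' hR hc, good_psi P p hp M ℓ' R' hR hc,
      S.lam_add ℓ ℓ' (by rw [S.p₁_comb₀ (p₁_lifts P p hp M), hR]), map_add]
  map_smul' c ℓ := by
    let S := smallOf p hp M
    rw [RingHom.id_apply, ← LinearMap.map_smul_of_tower]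
    refine congrArg _ (S.good_unique (isEqns P p hp M) (p₁_lifts P p hp M) (good_psi P p hp M _) ?_)
    intro R' hR hc
    rw [LinearMap.smul_apply, good_psi P p hp M ℓ R' hR hc,
      S.lam_smul c ℓ (by rw [S.p₁_comb₀ (p₁_lifts P p hp M), hR]), map_mul, Algebra.smul_def]
    exact congrArg (· * _) (MvPolynomial.aeval_C _ _).symm

theorem ob_eq (ℓ : Module.Dual k (smallOf p hp M).J) {F₀ : σ → MvPolynomial ι (smallOf p hp M).R'}
    (hF₀ : (smallOf p hp M).p₁ ∘ F₀ = eqns P M) {Ψ : L2 P →ₗ[B₀] B₀}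
    (h : (smallOf p hp M).Good (eqns P M) ℓ F₀ Ψ) : ob P p hp M ℓ = toT2 P B₀ Ψ :=
  (smallOf p hp M).toT2_eq (isEqns P p hp M) (p₁_lifts P p hp M) hF₀ (good_psi P p hp M ℓ) h

variable (p' : C'' ⟶ C) (hp' : Art.IsSemismallExt p')

/-- naturality in the extension -/
theorem ob_natural (g : C' ⟶ C'') (hg : g ≫ p' = p) (ℓ : Module.Dual k (smallOf p hp M).J)
    (ℓ' : Module.Dual k (smallOf p' hp' M).J)
    (h : ∀ (j : (smallOf p hp M).J) (hj : g (j : C'.carrier) ∈ (smallOf p' hp' M).J), ℓ j = ℓ' ⟨_, hj⟩) :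
    ob P p hp M ℓ = ob P p' hp' M ℓ' := by
  let S := smallOf p hp M
  let S' := smallOf p' hp' M
  let g₁ : MvPolynomial ι S.R' →+* MvPolynomial ι S'.R' := MvPolynomial.map g.toAlgHom.toRingHom
  have hp₁ : ∀ x, S'.p₁ (g₁ x) = S.p₁ x := fun x => by
    show MvPolynomial.map p'.toAlgHom.toRingHom (MvPolynomial.map g.toAlgHom.toRingHom x) =
      MvPolynomial.map p.toAlgHom.toRingHom x
    rw [MvPolynomial.map_map]
    subst hg
    rfl
  have hF₀ : S'.p₁ ∘ (g₁ ∘ lifts P p hp M) = eqns P M := funext fun s =>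
    (hp₁ _).trans (congrFun (p₁_lifts P p hp M) s)
  obtain ⟨Ψ, hΨ⟩ := S'.exists_good (ℓ := ℓ') (isEqns P p' hp' M) hF₀
  rw [ob_eq P p' hp' M ℓ' hF₀ hΨ]
  refine ob_eq P p hp M ℓ (p₁_lifts P p hp M) fun R' hR hc => ?_
  have hR' : S'.p₁ ∘ (g₁ ∘ R') = S.p₁ ∘ R' := funext fun s => hp₁ _
  have he : S'.e₂ ∘ (g₁ ∘ R') = S.e₂ ∘ R' := funext fun s => congrArg S.e₁ (hp₁ (R' s))
  have key := hΨ (g₁ ∘ R') (by rw [hR']; exact hR) (by rw [he]; exact hc)
  simp only [he] at key
  rw [key, ← map_comb]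
  congr 1
  refine S.ker_induction (motive := fun x => S'.lam ℓ' (g₁ x) = S.lam ℓ x) (fun a j => ?_) (by simp)
    (fun x y e e' => by simp only [map_add, e, e']) (by rw [S.p₁_comb₀ (p₁_lifts P p hp M), hR])
  have hj : g (j : C'.carrier) ∈ S'.J := by
    show p'.toAlgHom (g.toAlgHom (j : C'.carrier)) = 0
    have hj0 : p.toAlgHom (j : C'.carrier) = 0 := j.2
    subst hg
    exact hj0
  rw [map_mul, show g₁ (MvPolynomial.C (j : S.R')) = MvPolynomial.C ((⟨_, hj⟩ : S'.J) : S'.R') from MvPolynomial.map_C _ _, S'.lam_mul_C,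
    S.lam_mul_C, h j hj]
  congr 1
  exact congrArg S.e₁ (hp₁ a)

end

theorem eq_sum_tmul {V W : Type u} [AddCommGroup V] [Module k V] [AddCommGroup W] [Module k W] {κ : Type*} [Fintype κ]
    (b : Module.Basis κ k W) (z : V ⊗[k] W) :
    z = ∑ l, TensorProduct.rid k V (LinearMap.lTensor V (b.coord l) z) ⊗ₜ b l := by
  induction z using TensorProduct.induction_on with
  | zero => simp
  | add x y hx hy => simp only [map_add, add_tmul, Finset.sum_add_distrib, ← hx, ← hy]
  | tmul v w =>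
    simp only [LinearMap.lTensor_tmul, TensorProduct.rid_tmul, TensorProduct.smul_tmul, ← TensorProduct.tmul_sum]
    exact congrArg (v ⊗ₜ ·) (b.sum_repr w).symm

theorem ext_tmul {V W : Type u} [AddCommGroup V] [Module k V] [AddCommGroup W] [Module k W] [Module.Finite k W]
    {z z' : V ⊗[k] W} (h : ∀ ℓ : Module.Dual k W,
      TensorProduct.rid k V (LinearMap.lTensor V ℓ z) = TensorProduct.rid k V (LinearMap.lTensor V ℓ z')) : z = z' := by
  rw [eq_sum_tmul (Module.finBasis k W) z, eq_sum_tmul (Module.finBasis k W) z']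
  exact Finset.sum_congr rfl fun l _ => by rw [h]

theorem finite_ker {C' C : Art k k} (p : C' ⟶ C) : Module.Finite k ↥(RingHom.ker p.toAlgHom) := by
  haveI := ArtFib.module_finite (Λ := k) C'
  exact inferInstanceAs (Module.Finite k ↥((RingHom.ker p.toAlgHom).restrictScalars k))

section
variable {C' C : Art k k} (p : C' ⟶ C) (hp : Art.IsSemismallExt p) (M : DefFun.Model B₀ C)

/-- `ob` on the kernel of the morphism -/
def obK : Module.Dual k ↥(RingHom.ker p.toAlgHom) →ₗ[k] T2 P B₀ := ob P p hp M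

/-- the obstruction in `T² ⊗ J` -/
def obsM : T2 P B₀ ⊗[k] ↥(RingHom.ker p.toAlgHom) :=
  haveI := finite_ker p
  ∑ l, obK P p hp M ((Module.finBasis k ↥(RingHom.ker p.toAlgHom)).coord l) ⊗ₜ
    (Module.finBasis k ↥(RingHom.ker p.toAlgHom)) l

theorem eval_obsM (ℓ : Module.Dual k ↥(RingHom.ker p.toAlgHom)) :
    TensorProduct.rid k _ (LinearMap.lTensor _ ℓ (obsM P p hp M)) = obK P p hp M ℓ := by
  haveI := finite_ker p
  simp only [obsM, map_sum, LinearMap.lTensor_tmul, TensorProduct.rid_tmul]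
  conv_rhs => rw [← (Module.finBasis k ↥(RingHom.ker p.toAlgHom)).sum_dual_apply_smul_coord ℓ]
  rw [map_sum]
  exact Finset.sum_congr rfl fun l _ => (map_smul _ _ _).symm

theorem obsM_eq_zero_iff : obsM P p hp M = 0 ↔
    ∃ u', (defFunctor (Λ := k) (Spec (CommRingCat.of B₀)) (Spec.map (CommRingCat.ofHom (algebraMap k B₀)))).map p u' =
      M.cl := by
  haveI := finite_ker p
  let S := smallOf p hp M
  constructor
  · intro h0
    have hz : ∀ ℓ Ψ, S.Good (eqns P M) ℓ (lifts P p hp M) Ψ → toT2 P B₀ Ψ = 0 := fun ℓ Ψ hΨ => by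
      rw [← ob_eq P p hp M ℓ (p₁_lifts P p hp M) hΨ]
      show obK P p hp M ℓ = 0
      rw [← eval_obsM, h0, map_zero, map_zero]
    haveI : Module.Finite k S.J := finite_ker p
    obtain ⟨L⟩ := S.exists_lft (isEqns P p hp M) (lifts P p hp M) (p₁_lifts P p hp M) hz
    let N : DefFun.Model B₀ C' :=
      { T := L.T'
        φ := L.φ
        flat := L.flat
        q := L.qm
        surj := L.qm_surj
        ker := L.qm_ker
        w := RingHom.ext fun a => by
          show L.qm (L.φ a) = algebraMap k B₀ (C'.res a)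
          rw [L.qm_φ]
          exact congrArg (algebraMap k B₀) (Art.res_app p a) }
    exact ⟨N.cl, DefFun.Model.map_cl p N M L.m (RingHom.ext L.m_φ) rfl⟩
  · rintro ⟨u', hu'⟩
    induction u' using Quotient.inductionOn with
    | h ξ =>
      obtain ⟨e⟩ := Quotient.exact (s := DefSch.setoid _ _ C) hu'
      obtain ⟨L, -⟩ := exists_rep (p := p) (hp := hp) (M := M) (DefSch.Iso.refl M.sch) ⟨ξ, e⟩
      obtain ⟨F₀, hF₀, hgood⟩ := S.exists_good_zero (L := L) (F := eqns P M) (P := P) (isEqns P p hp M)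
      refine ext_tmul fun ℓ => ?_
      rw [eval_obsM, map_zero, map_zero]
      have hz := ob_eq P p hp M ℓ hF₀ (hgood ℓ)
      rw [map_zero] at hz
      exact hz

end

theorem obsM_quot {C' C : Art k k} (p : C' ⟶ C) (hp : Art.IsSemismallExt p) (M : DefFun.Model B₀ C) (K : Ideal C')
    (hK : K ≤ IsLocalRing.maximalIdeal C') (hKJ : K ≤ RingHom.ker p.toAlgHom)
    (hq : Art.IsSemismallExt (Art.quotFactor hK p hKJ)) :
    obsM P (Art.quotFactor hK p hKJ) hq M =
      LinearMap.lTensor (T2 P B₀) ((Art.kerToQuot hK p hKJ).restrictScalars k) (obsM P p hp M) := by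
  haveI := finite_ker (Art.quotFactor hK p hKJ)
  refine ext_tmul fun ℓ => ?_
  let κ : ↥(RingHom.ker p.toAlgHom) →ₗ[k] ↥(RingHom.ker (Art.quotFactor hK p hKJ).toAlgHom) :=
    (Art.kerToQuot hK p hKJ).restrictScalars k
  have e : ∀ z, LinearMap.lTensor (T2 P B₀) ℓ (LinearMap.lTensor (T2 P B₀) κ z) =
      LinearMap.lTensor (T2 P B₀) (ℓ ∘ₗ κ) z := fun z => by
    rw [LinearMap.lTensor_comp]; rfl
  rw [eval_obsM, e, eval_obsM]
  exact (ob_natural P p hp M (Art.quotFactor hK p hKJ) hq (Art.quotMk _ K hK) (Art.quotMk_quotFactor hK p hKJ)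
    (ℓ ∘ₗ κ) ℓ fun j hj => rfl).symm

/-- `T²` is an obstruction space -/
def obsTheory : ObsTheory (defFunctor (Λ := k) (Spec (CommRingCat.of B₀))
    (Spec.map (CommRingCat.ofHom (algebraMap k B₀)))) (T2 P B₀) where
  obs p hp u := obsM P p hp (DefFun.exists_model u).choose
  obs_eq_zero_iff p hp u := (obsM_eq_zero_iff P p hp _).trans (by rw [(DefFun.exists_model u).choose_spec])
  obs_quot p hp K hK hKJ hq u := obsM_quot P p hp _ K hK hKJ hq

end Groth.Agent.RigidDef
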