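import Groth.Agent.DefFun.FirstOrder
import Groth.Agent.CotT.ExalT1
import Groth.Agent.ArtKit.Versal
import Groth.Agent.ArtPow.Basic

/-!
The tangent space of a hull of the deformations of an affine algebra is `T¹`, with its dimension.
-/

set_option autoImplicit false
set_option linter.style.haveILetI false
set_option backward.isDefEq.respectTransparency false
set_option maxHeartbeats 1000000
set_option synthInstance.maxHeartbeats 100000

universe u

open CategoryTheory AlgebraicGeometry IsLocalRing TensorProduct TrivSqZeroExt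

noncomputable section

namespace Groth.Agent.RigidDef

open ArtFun ArtFun.Art ArtKit DefFun

section Iso

variable {k : Type u} [Field k] {P A₀ : Type u} [CommRing P] [CommRing A₀] [Algebra k P] [Algebra P A₀] [Algebra k A₀]
  [Module Pᵐᵒᵖ A₀] [IsCentralScalar P A₀] [IsScalarTower k P A₀] (hπ : Function.Surjective (algebraMap P A₀))

include hπ

/-- isomorphic first order deformations differ by a derivation -/
theorem exists_derivation_of_cl_eq (φ φ' : kerI P A₀ →ₗ[P] A₀)
    (h : (fo (k := k) k (fun _ : Fin 1 => φ) hπ).cl = (fo (k := k) k (fun _ : Fin 1 => φ') hπ).cl) :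
    ∃ D : Derivation k P A₀, ∀ i : kerI P A₀, φ i = φ' i - D i := by
  classical
  let M := fo (k := k) k (fun _ : Fin 1 => φ) hπ
  let N := fo (k := k) k (fun _ : Fin 1 => φ') hπ
  obtain ⟨e⟩ := Quotient.exact (s := DefSch.setoid _ _ (dualN k k 1)) h
  obtain ⟨Θ, hΘ⟩ := Spec.map_surjective (R := CommRingCat.of N.T) (S := CommRingCat.of M.T) e.iso.hom
  have hΘφ : ∀ r, Θ.hom (N.φ r) = M.φ r := fun r => by
    have h1 : Spec.map Θ ≫ Spec.map (CommRingCat.ofHom N.φ) = Spec.map (CommRingCat.ofHom M.φ) := by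
      rw [hΘ]; exact e.hom_f
    rw [← Spec.map_comp] at h1
    exact RingHom.congr_fun (congrArg CommRingCat.Hom.hom (Spec.map_injective h1)) r
  have hΘq : ∀ t, M.q (Θ.hom t) = N.q t := fun t => by
    have h1 : Spec.map (CommRingCat.ofHom M.q) ≫ Spec.map Θ = Spec.map (CommRingCat.ofHom N.q) := by
      rw [hΘ]; exact e.i_hom
    rw [← Spec.map_comp] at h1
    exact RingHom.congr_fun (congrArg CommRingCat.Hom.hom (Spec.map_injective h1)) t
  let mkM : TrivSqZeroExt P (Fin 1 → A₀) →+* FO (fun _ : Fin 1 => φ) := Ideal.Quotient.mk _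
  let mkN : TrivSqZeroExt P (Fin 1 → A₀) →+* FO (fun _ : Fin 1 => φ') := Ideal.Quotient.mk _
  let Θ' : FO (fun _ : Fin 1 => φ') →+* FO (fun _ : Fin 1 => φ) := Θ.hom
  let φM : TrivSqZeroExt k (Fin 1 → k) →+* FO (fun _ : Fin 1 => φ) := foMap k (fun _ : Fin 1 => φ)
  let φN : TrivSqZeroExt k (Fin 1 → k) →+* FO (fun _ : Fin 1 => φ') := foMap k (fun _ : Fin 1 => φ')
  have hΘφ' : ∀ r, Θ' (φN r) = φM r := hΘφ
  have hqM : ∀ z, M.q (mkM z) = algebraMap P A₀ (fst z) := fun z => rfl
  have hqN : ∀ z, N.q (mkN z) = algebraMap P A₀ (fst z) := fun z => rfl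
  let ν : ∀ z : TrivSqZeroExt P (Fin 1 → A₀), fst z ∈ kerI P A₀ → A₀ := fun z hz => snd z 0 + φ ⟨fst z, hz⟩
  have hν : ∀ z z' hz hz', mkM z = mkM z' → ν z hz = ν z' hz' := fun z z' hz hz' he => by
    obtain ⟨i, h1, h2⟩ := (Ideal.Quotient.eq).1 he
    have hi : i = (⟨fst z, hz⟩ : kerI P A₀) - ⟨fst z', hz'⟩ := Subtype.ext (h1.symm.trans (fst_sub z z'))
    have h3 : snd z 0 - snd z' 0 = -φ i := by
      have := congrFun h2 0
      simpa [snd_sub] using this
    rw [hi, map_sub] at h3
    show snd z 0 + φ _ = snd z' 0 + φ _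
    linear_combination h3
  have hνadd : ∀ z z' hz hz' hzz, ν (z + z') hzz = ν z hz + ν z' hz' := fun z z' hz hz' hzz => by
    show snd (z + z') 0 + φ ⟨fst (z + z'), hzz⟩ = _
    rw [show (⟨fst (z + z'), hzz⟩ : kerI P A₀) = ⟨fst z, hz⟩ + ⟨fst z', hz'⟩ from Subtype.ext (fst_add z z'),
      map_add, snd_add, Pi.add_apply]
    show _ = snd z 0 + φ _ + (snd z' 0 + φ _)
    abel
  have hνmul : ∀ z y hz hzy, ν (z * y) hzy = fst y • ν z hz := fun z y hz hzy => by
    show snd (z * y) 0 + φ ⟨fst (z * y), hzy⟩ = fst y • (snd z 0 + φ ⟨fst z, hz⟩)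
    rw [show (⟨fst (z * y), hzy⟩ : kerI P A₀) = fst y • ⟨fst z, hz⟩ from Subtype.ext (by
        show fst (z * y) = fst y * fst z
        rw [fst_mul, mul_comm]), map_smul,
      TrivSqZeroExt.snd_mul, op_smul_eq_smul, Pi.add_apply, Pi.smul_apply, Pi.smul_apply,
      Algebra.smul_def (fst z), RingHom.mem_ker.1 hz, zero_mul, zero_add, smul_add]
  choose rep hrep using fun p : P => Ideal.Quotient.mk_surjective (Θ' (mkN (inl p)))
  have hrep' : ∀ p, fst (rep p - inl p) ∈ kerI P A₀ := fun p => by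
    have h1 : M.q (Θ' (mkN (inl p))) = N.q (mkN (inl p)) := hΘq _
    rw [← hrep p, hqN, fst_inl] at h1
    rw [RingHom.mem_ker, fst_sub, fst_inl, map_sub, sub_eq_zero]
    exact h1
  let Dp : P → A₀ := fun p => ν (rep p - inl p) (hrep' p)
  have hD : ∀ p z, mkM z = Θ' (mkN (inl p)) → ∀ hz, ν (z - inl p) hz = Dp p := fun p z hz hz' =>
    hν _ _ _ _ (by rw [map_sub, map_sub, hz]; exact congrArg (· - _) (hrep p).symm)
  let Dl : P →ₗ[k] A₀ :=
    { toFun := Dp
      map_add' := fun p p' => by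
        have h1 : fst (rep p + rep p' - inl (p + p')) ∈ kerI P A₀ := by
          rw [inl_add, add_sub_add_comm, fst_add]; exact add_mem (hrep' p) (hrep' p')
        rw [← hD (p + p') (rep p + rep p') (by rw [inl_add, map_add, map_add, map_add]; exact congrArg₂ (· + ·) (hrep p) (hrep p')) h1,
          ← hνadd (rep p - inl p) (rep p' - inl p') (hrep' p) (hrep' p') (by rw [fst_add]; exact add_mem (hrep' p) (hrep' p'))]
        refine hν _ _ _ _ (congrArg mkM ?_)
        rw [inl_add]; abel
      map_smul' := fun c p => by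
        let z0 : TrivSqZeroExt P (Fin 1 → A₀) := inl (algebraMap k P c)
        have hz0 : mkM z0 = φM (inl c : TrivSqZeroExt k (Fin 1 → k)) := by
          show Ideal.Quotient.mk _ _ = Ideal.Quotient.mk _ (foE k P A₀ 1 _)
          congr 1
          exact TrivSqZeroExt.ext (by rw [fst_foE]; rfl) (funext fun j => by rw [snd_foE]; simp [z0])
        have hz1 : mkN z0 = φN (inl c : TrivSqZeroExt k (Fin 1 → k)) := by
          show Ideal.Quotient.mk _ _ = Ideal.Quotient.mk _ (foE k P A₀ 1 _)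
          congr 1
          exact TrivSqZeroExt.ext (by rw [fst_foE]; rfl) (funext fun j => by rw [snd_foE]; simp [z0])
        have e1 : (inl (c • p) : TrivSqZeroExt P (Fin 1 → A₀)) = z0 * inl p := by
          rw [← inl_mul, Algebra.smul_def]
        have h1 : fst (rep p * z0 - inl (c • p)) ∈ kerI P A₀ := by
          rw [e1, mul_comm z0, ← sub_mul, fst_mul]
          exact Ideal.mul_mem_right _ _ (hrep' p)
        rw [← hD (c • p) (rep p * z0) (by
          rw [e1, map_mul, map_mul, map_mul, hz0, hz1, hΘφ']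
          exact (congrArg (· * _) (hrep p)).trans (mul_comm _ _)) h1, RingHom.id_apply]
        refine (hν _ ((rep p - inl p) * z0) _ (by rw [fst_mul]; exact Ideal.mul_mem_right _ _ (hrep' p))
          (congrArg mkM (by rw [e1, sub_mul, mul_comm z0]))).trans ?_
        rw [hνmul _ _ (hrep' p), fst_inl, algebraMap_smul] }
  have hleib : ∀ p p', Dp (p * p') = p • Dp p' + p' • Dp p := fun p p' => by
    have h1 : fst (rep p * rep p' - inl (p * p')) ∈ kerI P A₀ := by
      rw [RingHom.mem_ker, fst_sub, fst_mul, fst_inl, map_sub, map_mul, map_mul, sub_eq_zero]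
      have a := hrep' p
      have b := hrep' p'
      rw [RingHom.mem_ker, fst_sub, fst_inl, map_sub, sub_eq_zero] at a b
      rw [a, b]
    rw [← hD (p * p') (rep p * rep p') (by rw [inl_mul, map_mul, map_mul, map_mul]; exact congrArg₂ (· * ·) (hrep p) (hrep p')) h1]
    have h2 : fst ((rep p - inl p) * rep p') ∈ kerI P A₀ := by rw [fst_mul]; exact Ideal.mul_mem_right _ _ (hrep' p)
    have h3 : fst ((rep p' - inl p') * inl p) ∈ kerI P A₀ := by rw [fst_mul]; exact Ideal.mul_mem_right _ _ (hrep' p')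
    rw [hν _ ((rep p - inl p) * rep p' + (rep p' - inl p') * inl p) h1 (by rw [fst_add]; exact add_mem h2 h3)
        (congrArg mkM (by rw [inl_mul]; ring)),
      hνadd _ _ h2 h3, hνmul _ _ (hrep' p), hνmul _ _ (hrep' p'), fst_inl, add_comm]
    congr 1
    show fst (rep p') • Dp p = p' • Dp p
    have b := hrep' p'
    rw [RingHom.mem_ker, fst_sub, fst_inl, map_sub, sub_eq_zero] at b
    rw [Algebra.smul_def, Algebra.smul_def, b]
  refine ⟨Derivation.mk' Dl hleib, fun i => ?_⟩
  obtain ⟨p, hp⟩ := hπ (φ' i)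
  let e0 : TrivSqZeroExt k (Fin 1 → k) := inr fun _ => 1
  have he0 : foE k P A₀ 1 e0 = inr fun _ => (1 : A₀) := by
    rw [foE_inr]
    exact congrArg inr (funext fun _ => map_one _)
  have hmul : ∀ z : TrivSqZeroExt P (Fin 1 → A₀), (inr fun _ => (1 : A₀)) * z =
      inr (fun _ : Fin 1 => algebraMap P A₀ (fst z)) := fun z => by
    refine TrivSqZeroExt.ext (by rw [fst_mul, fst_inr, zero_mul, fst_inr]) (funext fun j => ?_)
    rw [TrivSqZeroExt.snd_mul, fst_inr, zero_smul, zero_add, snd_inr, snd_inr, op_smul_eq_smul, Pi.smul_apply,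
      Algebra.smul_def, mul_one]
  have h1 : mkN (inl (i : P)) = φN e0 * mkN (inl p) := by
    show _ = mkN (foE k P A₀ 1 e0) * mkN (inl p)
    rw [← map_mul, he0, hmul, Ideal.Quotient.eq]
    exact ⟨i, by simp, funext fun j => by simp [hp]⟩
  have h2 : mkM ((inr fun _ => (1 : A₀)) * rep p) = Θ' (mkN (inl (i : P))) := by
    rw [h1, map_mul, map_mul, hΘφ', ← he0]
    exact congrArg₂ (· * ·) rfl (hrep p)
  have hz : fst ((inr fun _ => (1 : A₀)) * rep p - inl (i : P)) ∈ kerI P A₀ := by
    rw [fst_sub, fst_mul, fst_inr, zero_mul, fst_inl, zero_sub]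
    exact neg_mem i.2
  show φ i = φ' i - Dp i
  rw [← hD (i : P) _ h2 hz]
  show φ i = φ' i - (snd (((inr fun _ => (1 : A₀)) * rep p - inl (i : P)) : TrivSqZeroExt P (Fin 1 → A₀)) 0 + φ ⟨_, hz⟩)
  rw [show (⟨_, hz⟩ : kerI P A₀) = -i from Subtype.ext (by simp), map_neg, snd_sub, hmul, snd_inr, snd_inl,
    sub_zero]
  have b := hrep' p
  rw [RingHom.mem_ker, fst_sub, fst_inl, map_sub, sub_eq_zero] at b
  rw [b, hp]
  abel

end Iso

section Presented

variable {k B₀ : Type u} [Field k] [CommRing B₀] [Algebra k B₀] {ι σ : Type u} (P : Algebra.Presentation k B₀ ι σ)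

/-- the restriction of a functional on the conormal module to the ideal -/
def toHom (φ : P.toExtension.Cotangent →ₗ[B₀] B₀) :
    kerI P.toExtension.Ring B₀ →ₗ[P.toExtension.Ring] B₀ :=
  (φ.restrictScalars P.toExtension.Ring).comp Algebra.Extension.Cotangent.mk

theorem exists_toHom (Φ : kerI P.toExtension.Ring B₀ →ₗ[P.toExtension.Ring] B₀) : ∃ φ, toHom P φ = Φ := by
  let Φl : P.toExtension.ker →ₗ[P.toExtension.Ring] B₀ := Φ
  have hle : (P.toExtension.ker • ⊤ : Submodule P.toExtension.Ring P.toExtension.ker) ≤ LinearMap.ker Φl := by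
    refine Submodule.smul_le.2 fun a ha i _ => ?_
    rw [LinearMap.mem_ker, map_smul, Algebra.smul_def, show algebraMap P.toExtension.Ring B₀ a = 0 from ha, zero_mul]
  let Φc : P.toExtension.ker.Cotangent →ₗ[P.toExtension.Ring] B₀ := Submodule.liftQ _ Φl hle
  refine ⟨{ toFun := fun c => Φc c.val
            map_add' := fun c d => map_add Φc c.val d.val
            map_smul' := fun b c => ?_ }, LinearMap.ext fun i => rfl⟩
  obtain ⟨x, rfl⟩ := CotT.algebraMap_surjective P b
  obtain ⟨i, rfl⟩ := Algebra.Extension.Cotangent.mk_surjective c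
  rw [RingHom.id_apply, algebraMap_smul, ← map_smul]
  show Φl (x • i) = algebraMap P.toExtension.Ring B₀ x • Φl i
  rw [map_smul, algebraMap_smul]

theorem homToT1_eq_zero_iff_derivation (φ : P.toExtension.Cotangent →ₗ[B₀] B₀) :
    CotT.homToT1 P B₀ φ = 0 ↔ ∃ D : Derivation k P.toExtension.Ring B₀, ∀ i, toHom P φ i = D i := by
  rw [Groth.Agent.CotT.homToT1_eq_zero]
  constructor
  · rintro ⟨ψ, rfl⟩
    refine ⟨((ψ.restrictScalars P.toExtension.Ring).comp
      (TensorProduct.mk P.toExtension.Ring B₀ Ω[P.toExtension.Ring⁄k] 1)).compDer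
        (KaehlerDifferential.D k P.toExtension.Ring), fun i => ?_⟩
    show ψ (P.toExtension.cotangentComplex (Algebra.Extension.Cotangent.mk i)) = _
    rw [Algebra.Extension.cotangentComplex_mk]
    rfl
  · rintro ⟨D, hD⟩
    refine ⟨LinearMap.liftBaseChange B₀ D.liftKaehlerDifferential, LinearMap.ext fun c => ?_⟩
    obtain ⟨i, rfl⟩ := Algebra.Extension.Cotangent.mk_surjective c
    rw [LinearMap.comp_apply, Algebra.Extension.cotangentComplex_mk]
    show LinearMap.liftBaseChange B₀ D.liftKaehlerDifferential ((1 : B₀) ⊗ₜ _) = _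
    rw [LinearMap.liftBaseChange_tmul, one_smul, Derivation.liftKaehlerDifferential_comp_D]
    exact (hD i).symm

/-- the tangent space of a hull has the dimension of `T¹` -/
theorem finrank_T1_eq [Module.Finite k (CotT.T1 P B₀)]
    (H : Hull (defFunctor (Λ := k) (Spec (CommRingCat.of B₀)) (Spec.map (CommRingCat.ofHom (algebraMap k B₀)))))
    {d : ℕ} (q : MvPowerSeries (Fin d) k →ₐ[k] H.ring.carrier) (hq : Function.Surjective q)
    (hsq : RingHom.ker q ≤ maximalIdeal (MvPowerSeries (Fin d) k) ^ 2) :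
    Module.finrank k (CotT.T1 P B₀) = d := by
  classical
  let Q := P.toExtension.Ring
  letI := opModule Q B₀
  haveI := centralScalar Q B₀
  have hπ : Function.Surjective (algebraMap Q B₀) := CotT.algebraMap_surjective P
  let F := defFunctor (Λ := k) (Spec (CommRingCat.of B₀)) (Spec.map (CommRingCat.ofHom (algebraMap k B₀)))
  have h0 : H0 F := DefFun.h0 _ _
  let n := Module.finrank k (CotT.T1 P B₀)
  let bT := Module.finBasis k (CotT.T1 P B₀)
  choose φ hφ using fun j => Groth.Agent.CotT.homToT1_surjective P B₀ (bT j)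
  let Φ : Fin n → (kerI Q B₀ →ₗ[Q] B₀) := fun j => toHom P (φ j)
  obtain ⟨g, hg⟩ := Groth.Agent.ArtKit.surjective_app H.miniversal.1 h0 (dualN k k n) (fo k Φ hπ).cl
  -- injectivity of the family on `k[ε]`
  let c : Art.dual k k ⟶ dualN k k 1 := ⟨tszeMap (LinearMap.pi fun _ => LinearMap.id), AlgHom.ext fun _ => rfl⟩
  have hc : dualNHom (LinearMap.proj 0) ≫ c = 𝟙 (dualN k k 1) := Art.hom_ext (AlgHom.ext fun x =>
    TrivSqZeroExt.ext rfl (funext fun i => by
      show TrivSqZeroExt.snd (show TrivSqZeroExt k (Fin 1 → k) from x) 0 = _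
      rw [Subsingleton.elim i 0]; rfl))
  have hinj : ∀ h₁ h₂ : HomSet H.ring.carrier H.ring.res (dualN k k 1),
      H.family.app _ h₁ = H.family.app _ h₂ → h₁ = h₂ := fun h₁ h₂ he => by
    have h1 : HomSet.map (dualNHom (LinearMap.proj 0)) h₁ = HomSet.map (dualNHom (LinearMap.proj 0)) h₂ :=
      H.miniversal.2.1 (by rw [H.family.natural, H.family.natural, he])
    have h2 := congrArg (HomSet.map c) h1
    have e : ∀ h : HomSet H.ring.carrier H.ring.res (dualN k k 1),
        HomSet.map c (HomSet.map (dualNHom (LinearMap.proj 0)) h) = h := fun h =>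
      Subtype.ext (AlgHom.ext fun r => congrArg (fun f : dualN k k 1 ⟶ dualN k k 1 => f (h.1 r)) hc)
    rwa [e, e] at h2
  choose m hm hm' using fun a : Fin n → k => exists_dual_hom (Λ := k) a
  have hξ : ∀ (a : Fin n → k) (ψ : kerI Q B₀ →ₗ[Q] B₀) (D : Derivation k Q B₀),
      (∀ i : kerI Q B₀, ψ i = (∑ j, a j • Φ j i) - D i) →
      H.family.app _ (HomSet.map (m a) g) = (fo k (fun _ : Fin 1 => ψ) hπ).cl := fun a ψ D h => by
    rw [H.family.natural, hg]
    exact map_fo Φ hπ ψ a D h (m a) (hm a)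
  let xs : Fin d → H.ring.carrier := fun i => q (MvPowerSeries.X i)
  let Θ : (Fin n → k) →ₗ[k] (Fin d → k) :=
    { toFun := fun a i => ∑ j, a j * TrivSqZeroExt.snd (show TrivSqZeroExt k (Fin n → k) from g.1 (xs i)) j
      map_add' := fun a b => funext fun i => by simp [add_mul, Finset.sum_add_distrib]
      map_smul' := fun t a => funext fun i => by simp [Finset.mul_sum, mul_assoc] }
  have hval : ∀ a i, TrivSqZeroExt.snd
      (show TrivSqZeroExt k (Fin 1 → k) from (HomSet.map (m a) g).1 (xs i)) 0 = Θ a i := fun a i =>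
    congrFun (congrArg TrivSqZeroExt.snd (hm a (g.1 (xs i)))) 0
  have hXm : ∀ i, (MvPowerSeries.X i : MvPowerSeries (Fin d) k) ∈ maximalIdeal (MvPowerSeries (Fin d) k) := fun i =>
    ArtPow.span_X_eq_maximalIdeal (k := k).le (Ideal.subset_span ⟨i, rfl⟩)
  have hxs : ∀ i, H.ring.res (xs i) = 0 := fun i => by
    have hmR : RingHom.ker (H.ring.res : H.ring.carrier →+* k) = maximalIdeal H.ring.carrier :=
      IsLocalRing.eq_maximalIdeal (RingHom.ker_isMaximal_of_surjective _ H.ring.res_surjective)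
    have : xs i ∈ maximalIdeal H.ring.carrier :=
      (IsLocalRing.map_maximalIdeal_of_surjective q.toRingHom hq).le (Ideal.mem_map_of_mem _ (hXm i))
    rw [← hmR] at this
    exact this
  have hfst : ∀ (h : HomSet H.ring.carrier H.ring.res (dualN k k 1)) i,
      TrivSqZeroExt.fst (show TrivSqZeroExt k (Fin 1 → k) from h.1 (xs i)) = 0 := fun h i =>
    (AlgHom.congr_fun h.2 (xs i)).trans (hxs i)
  obtain ⟨N, hN⟩ : ∃ N, maximalIdeal (dualN k k 1).carrier ^ N = ⊥ :=
    (isArtinianRing_iff_isNilpotent_maximalIdeal _).1 inferInstance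
  have hext : ∀ h₁ h₂ : HomSet H.ring.carrier H.ring.res (dualN k k 1),
      (∀ i, h₁.1 (xs i) = h₂.1 (xs i)) → h₁ = h₂ := fun h₁ h₂ he => by
    refine Subtype.ext (AlgHom.ext fun r => ?_)
    obtain ⟨r, rfl⟩ := hq r
    exact AlgHom.congr_fun (ArtPow.algHom_ext hN (φ := h₁.1.comp q) (ψ := h₂.1.comp q) he
      fun i => ((dualN k k 1).mem_maximalIdeal_iff _).2 (hfst h₁ i)) r
  have hΘinj : Function.Injective Θ := by
    rw [injective_iff_map_eq_zero]
    intro a ha
    have h1 : HomSet.map (m a) g = HomSet.map (m 0) g := hext _ _ fun i => by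
      refine TrivSqZeroExt.ext ((hfst _ i).trans (hfst _ i).symm) (funext fun j => ?_)
      rw [Subsingleton.elim j 0]
      exact ((hval a i).trans (congrFun (ha.trans (map_zero Θ).symm) i)).trans (hval 0 i).symm
    have h2 := congrArg (H.family.app _) h1
    rw [hξ a (toHom P (∑ j, a j • φ j)) 0 (fun i => by
        rw [Derivation.coe_zero, Pi.zero_apply, sub_zero]
        show (∑ j, a j • φ j) _ = _
        simp [Φ, toHom]
        rfl),
      hξ 0 0 0 (fun i => by simp)] at h2
    obtain ⟨D, hD⟩ := exists_derivation_of_cl_eq hπ _ _ h2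
    have h3 : CotT.homToT1 P B₀ (∑ j, a j • φ j) = 0 :=
      (homToT1_eq_zero_iff_derivation P _).2 ⟨-D, fun i => by
        rw [hD i, LinearMap.zero_apply, zero_sub]; rfl⟩
    rw [map_sum] at h3
    simp only [LinearMap.map_smul_of_tower, hφ] at h3
    exact funext (Fintype.linearIndependent_iff.1 bT.linearIndependent a h3)
  have hΘsurj : Function.Surjective Θ := fun t => by
    let cX : Fin d → (dualN k k 1).carrier := fun i => (TrivSqZeroExt.inr fun _ => t i : TrivSqZeroExt k (Fin 1 → k))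
    have hcX : ∀ i, IsNilpotent (cX i) := fun i => ⟨2, by rw [pow_two]; exact TrivSqZeroExt.inr_mul_inr _ _ _⟩
    let h₀ := ArtPow.evalNil (R := k) cX hcX
    have hm2 : maximalIdeal (dualN k k 1).carrier * maximalIdeal (dualN k k 1).carrier = ⊥ := by
      refine le_bot_iff.1 (Ideal.mul_le.2 fun a ha b hb => ?_)
      rw [(dualN k k 1).mem_maximalIdeal_iff] at ha hb
      let a' : TrivSqZeroExt k (Fin 1 → k) := a
      let b' : TrivSqZeroExt k (Fin 1 → k) := b
      rw [Ideal.mem_bot]
      show a' * b' = 0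
      have ha' : fst a' = 0 := ha
      have hb' : fst b' = 0 := hb
      exact TrivSqZeroExt.ext (by simp [ha']) (by simp [TrivSqZeroExt.snd_mul, ha', hb'])
    have hmap : (maximalIdeal (MvPowerSeries (Fin d) k)).map h₀.toRingHom ≤ maximalIdeal (dualN k k 1).carrier := by
      rw [← ArtPow.span_X_eq_maximalIdeal, Ideal.map_span, Ideal.span_le]
      rintro _ ⟨_, ⟨i, rfl⟩, rfl⟩
      show h₀ (MvPowerSeries.X i) ∈ maximalIdeal (dualN k k 1).carrier
      rw [ArtPow.evalNil_X, (dualN k k 1).mem_maximalIdeal_iff]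
      rfl
    have hkill : ∀ f ∈ RingHom.ker q, h₀ f = 0 := fun f hf => by
      have h1 := Ideal.mem_map_of_mem h₀.toRingHom (hsq hf)
      rw [Ideal.map_pow] at h1
      have h2 := Ideal.pow_right_mono hmap 2 h1
      rwa [pow_two, hm2, Ideal.mem_bot] at h2
    let e := Ideal.quotientKerAlgEquivOfSurjective hq
    let h₁ : H.ring.carrier →ₐ[k] (dualN k k 1).carrier :=
      (Ideal.Quotient.liftₐ (RingHom.ker q) h₀ hkill).comp e.symm.toAlgHom
    have hh₁ : ∀ f, h₁ (q f) = h₀ f := fun f => by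
      show Ideal.Quotient.liftₐ (RingHom.ker q) h₀ hkill (e.symm (q f)) = h₀ f
      rw [show e.symm (q f) = Ideal.Quotient.mk _ f from (AlgEquiv.symm_apply_eq _).2 rfl]
      rfl
    let h : HomSet H.ring.carrier H.ring.res (dualN k k 1) := ⟨h₁, AlgHom.ext fun r => by
      obtain ⟨r, rfl⟩ := hq r
      refine AlgHom.congr_fun (ArtPow.algHom_ext (R := k) (A := k) (I := ⊥) (N := 1) (pow_one _)
        (φ := ((dualN k k 1).res.comp h₁).comp q) (ψ := H.ring.res.comp q) (fun i => ?_) fun i => ?_) r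
      · show (dualN k k 1).res (h₁ (q (MvPowerSeries.X i))) = H.ring.res (xs i)
        rw [hh₁, ArtPow.evalNil_X, hxs]
        rfl
      · show (dualN k k 1).res (h₁ (q (MvPowerSeries.X i))) ∈ (⊥ : Ideal k)
        rw [hh₁, ArtPow.evalNil_X]
        exact Ideal.mem_bot.2 rfl⟩
    obtain ⟨M, hM⟩ := exists_model (H.family.app _ h)
    obtain ⟨ψ, hψ⟩ := exists_fo_eq hπ (fun T _ _ qT hqT => by
      choose w hw using fun l : ι => hqT (P.val l)
      refine ⟨(MvPolynomial.aeval w : MvPolynomial ι k →ₐ[k] T), ?_⟩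
      refine MvPolynomial.algHom_ext fun l => ?_
      show qT (MvPolynomial.aeval w (MvPolynomial.X l)) = algebraMap P.toExtension.Ring B₀ (MvPolynomial.X l)
      rw [MvPolynomial.aeval_X, hw]
      exact ((CotT.algebraMap_toExtension P (MvPolynomial.X l)).trans (MvPolynomial.aeval_X _ _)).symm) M
    obtain ⟨φc, hφc⟩ := exists_toHom P ψ
    let a : Fin n → k := fun j => bT.repr (CotT.homToT1 P B₀ φc) j
    have h3 : CotT.homToT1 P B₀ ((∑ j, a j • φ j) - φc) = 0 := by
      rw [map_sub, map_sum]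
      simp only [LinearMap.map_smul_of_tower, hφ, a]
      rw [bT.sum_repr]
      exact sub_self _
    obtain ⟨D, hD⟩ := (homToT1_eq_zero_iff_derivation P _).1 h3
    have he : h = HomSet.map (m a) g := hinj _ _ (by
      rw [hξ a ψ D fun i => by
        rw [← hD i, ← hφc]
        show toHom P φc i = _
        simp [Φ, toHom]
        exact (sub_sub_cancel _ _).symm, hψ, hM])
    refine ⟨a, funext fun i => ?_⟩
    rw [← hval a i, ← he]
    show TrivSqZeroExt.snd (show TrivSqZeroExt k (Fin 1 → k) from h₁ (q (MvPowerSeries.X i))) 0 = t i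
    rw [hh₁, ArtPow.evalNil_X]
    rfl
  have := (LinearEquiv.ofBijective Θ ⟨hΘinj, hΘsurj⟩).finrank_eq
  simpa using this

end Presented

end Groth.Agent.RigidDef
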