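import Groth.Prelude.Def_Exal
import Mathlib

/-!
Flat deformations over an Artinian base of an algebra all of whose extensions by itself are trivial admit a section.
-/

set_option autoImplicit false
universe u
open IsLocalRing TensorProduct

namespace Groth.Agent.RigidDef

variable {k A B₀ T : Type u} [Field k] [CommRing A] [IsLocalRing A] [IsArtinianRing A] [CommRing B₀] [Algebra k B₀]
  [CommRing T] [Algebra A T] [Algebra k T] [Module.Flat A T]

/-- flatness: cancelling a socle element -/
theorem mem_map_max {J : Ideal A} {ε : A} (hε : ε ∉ J) (hm : ∀ a ∈ maximalIdeal A, a * ε ∈ J) {x : T}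
    (hx : algebraMap A T ε * x ∈ J.map (algebraMap A T)) : x ∈ (maximalIdeal A).map (algebraMap A T) := by
  let μ : A ⧸ maximalIdeal A →ₗ[A] A ⧸ J :=
    Submodule.mapQ (maximalIdeal A) J (LinearMap.mulRight A ε) fun a ha => hm a ha
  have hμ : Function.Injective μ := by
    rw [injective_iff_map_eq_zero]
    intro z hz
    obtain ⟨a, rfl⟩ := Submodule.Quotient.mk_surjective _ z
    have hz' : a * ε ∈ J := (Submodule.Quotient.mk_eq_zero _).1 hz
    refine (Submodule.Quotient.mk_eq_zero _).2 ?_
    by_contra h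
    have ha : IsUnit a := not_not.1 fun h' => h h'
    exact hε ((Ideal.unit_mul_mem_iff_mem J ha).1 hz')
  have h1 := Module.Flat.rTensor_preserves_injective_linearMap (M := T) μ hμ
  have h2 : μ.rTensor T (Submodule.Quotient.mk 1 ⊗ₜ[A] x) = 0 := by
    rw [LinearMap.rTensor_tmul, Submodule.mapQ_apply, LinearMap.mulRight_apply, one_mul]
    have e : (Submodule.Quotient.mk ε : A ⧸ J) = ε • Submodule.Quotient.mk 1 := by
      rw [← Submodule.Quotient.mk_smul, smul_eq_mul, mul_one]
    have h : ε • x ∈ LinearMap.ker (TensorProduct.mk A (A ⧸ J) T 1) := by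
      rw [LinearMap.ker_tensorProductMk, Ideal.smul_top_eq_map, Submodule.restrictScalars_mem, Algebra.smul_def]
      exact hx
    rw [e, smul_tmul]
    exact LinearMap.mem_ker.1 h
  have h3 : x ∈ LinearMap.ker (TensorProduct.mk A (A ⧸ maximalIdeal A) T 1) :=
    h1 (h2.trans (map_zero _).symm)
  rwa [LinearMap.ker_tensorProductMk, Ideal.smul_top_eq_map, Submodule.restrictScalars_mem] at h3

/-- the section -/
theorem exists_section (q : T →ₐ[k] B₀) (hq : Function.Surjective q)
    (hker : RingHom.ker q = (maximalIdeal A).map (algebraMap A T)) (hB : ∀ E : Exal.Ext k B₀ B₀, E.IsTrivial) :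
    ∃ σ : B₀ →ₐ[k] T, ∀ b, q (σ b) = b := by
  suffices H : ∀ J : Ideal A, J ≤ maximalIdeal A → ∃ σ : B₀ →ₐ[k] T ⧸ J.map (algebraMap A T),
      ∀ b t, Ideal.Quotient.mk _ t = σ b → q t = b by
    obtain ⟨σ, hσ⟩ := H ⊥ bot_le
    let e : (T ⧸ (⊥ : Ideal A).map (algebraMap A T)) ≃ₐ[k] T :=
      (Ideal.quotientEquivAlgOfEq k Ideal.map_bot).trans (AlgEquiv.quotientBot k T)
    refine ⟨e.toAlgHom.comp σ, fun b => hσ b _ ?_⟩
    obtain ⟨t, ht⟩ := Ideal.Quotient.mk_surjective (σ b)
    show Ideal.Quotient.mk _ (e (σ b)) = σ b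
    rw [← ht]
    rfl
  intro J
  induction J using WellFoundedGT.induction with
  | _ J ih =>
  intro hJm
  rcases eq_or_lt_of_le hJm with rfl | hlt
  · let e : (T ⧸ (maximalIdeal A).map (algebraMap A T)) ≃ₐ[k] B₀ :=
      (Ideal.quotientEquivAlgOfEq k hker.symm).trans (Ideal.quotientKerAlgEquivOfSurjective hq)
    refine ⟨e.symm.toAlgHom, fun b t ht => ?_⟩
    have : e (Ideal.Quotient.mk _ t) = b := by rw [ht]; exact e.apply_symm_apply b
    exact this
  classical
  obtain ⟨n, hn⟩ := IsArtinianRing.isNilpotent_jacobson_bot (R := A)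
  rw [IsLocalRing.jacobson_eq_maximalIdeal (⊥ : Ideal A) bot_ne_top] at hn
  have hex : ∃ i, maximalIdeal A ^ i ≤ J := ⟨n, hn.le.trans bot_le⟩
  have h2i : 2 ≤ Nat.find hex := by
    by_contra h
    push Not at h
    have h1 : maximalIdeal A ^ 1 ≤ J := (Ideal.pow_le_pow_right (by omega)).trans (Nat.find_spec hex)
    rw [pow_one] at h1
    exact not_le_of_gt hlt h1
  obtain ⟨ε, hε1, hε⟩ := SetLike.not_le_iff_exists.1 (Nat.find_min hex (show Nat.find hex - 1 < Nat.find hex by omega))
  have hεm : ε ∈ maximalIdeal A := Ideal.pow_le_self (by omega) hε1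
  have hm : ∀ a ∈ maximalIdeal A, a * ε ∈ J := fun a ha => Nat.find_spec hex (by
    rw [show Nat.find hex = Nat.find hex - 1 + 1 by omega, pow_succ']
    exact Ideal.mul_mem_mul ha hε1)
  obtain ⟨σ₁, hσ₁⟩ := ih (J ⊔ Ideal.span {ε})
    (lt_of_le_of_ne le_sup_left fun h => hε (h.symm ▸ Ideal.mem_sup_right (Ideal.mem_span_singleton_self ε)))
    (sup_le hJm ((Ideal.span_singleton_le_iff_mem _).2 hεm))
  let I := J.map (algebraMap A T)
  let I₁ := (J ⊔ Ideal.span {ε}).map (algebraMap A T)
  let π : T ⧸ I →ₐ[k] T ⧸ I₁ := Ideal.Quotient.factorₐ k (Ideal.map_mono le_sup_left)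
  let S : Subalgebra k ((T ⧸ I) × B₀) :=
    AlgHom.equalizer (π.comp (AlgHom.fst k (T ⧸ I) B₀)) (σ₁.comp (AlgHom.snd k (T ⧸ I) B₀))
  have hS : ∀ z : (T ⧸ I) × B₀, z ∈ S ↔ π z.1 = σ₁ z.2 := fun z => Iff.rfl
  let p : S →ₐ[k] B₀ := (AlgHom.snd k (T ⧸ I) B₀).comp S.val
  choose l hl using hq
  let εT := algebraMap A T ε
  have hzero : ∀ x : T, Ideal.Quotient.mk I (εT * x) = 0 ↔ q x = 0 := fun x => by
    rw [Ideal.Quotient.eq_zero_iff_mem]
    refine ⟨fun h => ?_, fun h => ?_⟩
    · exact (hker.symm ▸ mem_map_max hε hm h : x ∈ RingHom.ker q)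
    · have h' : x ∈ (maximalIdeal A).map (algebraMap A T) := hker ▸ h
      have : εT * x ∈ Ideal.span {εT} * (maximalIdeal A).map (algebraMap A T) :=
        Ideal.mul_mem_mul (Ideal.mem_span_singleton_self _) h'
      rw [← Set.image_singleton, ← Ideal.map_span, ← Ideal.map_mul] at this
      refine Ideal.map_mono ?_ this
      rw [Ideal.span_singleton_mul_le_iff]
      exact fun a ha => by rw [mul_comm]; exact hm a ha
  have hεI : εT ∈ I₁ := Ideal.mem_map_of_mem _ (Ideal.mem_sup_right (Ideal.mem_span_singleton_self ε))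
  let inc : B₀ →+ S :=
    { toFun := fun b => ⟨(Ideal.Quotient.mk I (εT * l b), 0), (hS _).2 (by
        rw [map_zero]
        exact Ideal.Quotient.eq_zero_iff_mem.2 (I₁.mul_mem_right _ hεI))⟩
      map_zero' := by
        ext1
        exact Prod.ext ((hzero _).2 (hl 0)) rfl
      map_add' := fun a b => by
        ext1
        refine Prod.ext ?_ (add_zero _).symm
        show Ideal.Quotient.mk I (εT * l (a + b)) = Ideal.Quotient.mk I (εT * l a) + Ideal.Quotient.mk I (εT * l b)
        rw [← sub_eq_zero, ← map_add, ← map_sub, ← mul_add, ← mul_sub, hzero, map_sub, map_add, hl, hl, hl, sub_self] }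
  let X : Exal.Ext k B₀ B₀ :=
    { E := S
      proj := p
      incl := inc
      isExtension :=
        { proj_surjective := fun b => by
            obtain ⟨t, ht⟩ := Ideal.Quotient.mk_surjective (σ₁ b)
            exact ⟨⟨(Ideal.Quotient.mk I t, b), (hS _).2 ht⟩, rfl⟩
          incl_injective := by
            rw [injective_iff_map_eq_zero]
            intro b hb
            have h := (hzero (l b)).1 (congrArg (fun z : S => z.1.1) hb)
            rwa [hl] at h
          exact := fun z => by
            refine ⟨fun hz => ?_, ?_⟩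
            · obtain ⟨t, ht⟩ := Ideal.Quotient.mk_surjective z.1.1
              have h1 : π z.1.1 = σ₁ z.1.2 := (hS _).1 z.2
              have hz' : z.1.2 = 0 := hz
              rw [hz', map_zero, ← ht] at h1
              have h2 : t ∈ I₁ := Ideal.Quotient.eq_zero_iff_mem.1 h1
              rw [show I₁ = I ⊔ Ideal.span {εT} by
                simp only [I₁, I, εT, Ideal.map_sup, Ideal.map_span, Set.image_singleton]] at h2
              obtain ⟨i, hi, w, hw, rfl⟩ := Submodule.mem_sup.1 h2
              obtain ⟨x, rfl⟩ := Ideal.mem_span_singleton.1 hw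
              refine ⟨q x, ?_⟩
              ext1
              refine Prod.ext ?_ hz'.symm
              show Ideal.Quotient.mk I (εT * l (q x)) = z.1.1
              rw [← ht, map_add, Ideal.Quotient.eq_zero_iff_mem.2 hi, zero_add, ← sub_eq_zero, ← map_sub, ← mul_sub,
                hzero, map_sub, hl, sub_self]
            · rintro ⟨b, rfl⟩
              rfl
          mul_incl := fun z b => by
            obtain ⟨t, ht⟩ := Ideal.Quotient.mk_surjective z.1.1
            have hqt : q t = z.1.2 := hσ₁ _ _ (by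
              have h1 : π z.1.1 = σ₁ z.1.2 := (hS _).1 z.2
              rw [← ht] at h1
              exact h1)
            ext1
            refine Prod.ext ?_ (mul_zero _)
            show z.1.1 * Ideal.Quotient.mk I (εT * l b) = Ideal.Quotient.mk I (εT * l (z.1.2 * b))
            rw [← ht, ← map_mul, ← sub_eq_zero, ← map_sub, mul_left_comm, ← mul_sub, hzero, map_sub, map_mul, hl, hl,
              hqt, sub_self] } }
  obtain ⟨s, hs⟩ := hB X
  refine ⟨(AlgHom.fst k (T ⧸ I) B₀).comp (S.val.comp s), fun b t ht => hσ₁ b t ?_⟩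
  have h1 : π (s b).1.1 = σ₁ (s b).1.2 := (hS _).1 (s b).2
  rw [show (s b).1.2 = b from hs b] at h1
  rw [← h1]
  exact congrArg π ht

end Groth.Agent.RigidDef
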