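import Groth.Agent.DefFun.Model
import Groth.Agent.RigidDef.Basic
import Groth.Prelude.Def_Exal

/-!
First order deformations of an affine scheme are extensions of the algebra by itself.
-/

set_option autoImplicit false
universe u
open CategoryTheory AlgebraicGeometry IsLocalRing TrivSqZeroExt

namespace Groth.Agent.RigidDef

variable {k B : Type u} [Field k] [CommRing B] [Algebra k B]

theorem eps_incl (X : Exal.Ext k B B) (x : X.E) : x * X.incl 1 = X.incl (X.proj x) := by
  rw [X.isExtension.mul_incl, smul_eq_mul, mul_one]

theorem proj_incl (X : Exal.Ext k B B) (b : B) : X.proj (X.incl b) = 0 :=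
  (X.isExtension.exact _).2 ⟨b, rfl⟩

/-- the structure map of the deformation attached to an extension -/
noncomputable def dualMap (X : Exal.Ext k B B) : DualNumber k →+* X.E where
  toFun z := algebraMap k X.E (fst z) + algebraMap k X.E (snd z) * X.incl 1
  map_one' := by rw [fst_one, snd_one, map_one, map_zero, zero_mul, add_zero]
  map_zero' := by rw [fst_zero, snd_zero, map_zero, zero_mul, add_zero]
  map_add' z w := by rw [fst_add, snd_add, map_add, map_add]; ring
  map_mul' z w := by
    have h : X.incl 1 * X.incl 1 = 0 := by rw [eps_incl, proj_incl, map_zero]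
    rw [TrivSqZeroExt.fst_mul, DualNumber.snd_mul, map_mul, map_add, map_mul, map_mul]
    linear_combination (-(algebraMap k X.E (snd z) * algebraMap k X.E (snd w))) * h

theorem mem_max_iff (z : DualNumber k) : z ∈ maximalIdeal (DualNumber k) ↔ fst z = 0 :=
  (ArtFun.Art.dual k k).mem_maximalIdeal_iff z

/-- the deformation attached to an extension -/
noncomputable def model (X : Exal.Ext k B B) : DefFun.Model B (ArtFun.Art.dual k k) where
  T := X.E
  φ := dualMap X
  flat := by
    show (dualMap X).Flat
    letI := (dualMap X).toAlgebra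
    refine Module.Flat.iff_rTensor_injective'.2 fun I => ?_
    have hI : ∀ i : I, fst (i : DualNumber k) ≠ 0 → I = ⊤ := fun i hi =>
      Ideal.eq_top_of_isUnit_mem _ i.2 (TrivSqZeroExt.isUnit_iff_isUnit_fst.2 (isUnit_iff_ne_zero.2 hi))
    by_cases htop : I = ⊤
    · subst htop
      exact (LinearEquiv.rTensor X.E (Submodule.topEquiv (R := DualNumber k) (M := DualNumber k))).injective
    rw [injective_iff_map_eq_zero]
    intro w hw
    have hfst : ∀ i : I, fst (i : DualNumber k) = 0 := fun i => by
      by_contra h
      exact htop (hI i h)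
    by_cases hbot : I = ⊥
    · subst hbot
      exact Subsingleton.elim _ _
    obtain ⟨i₀, hi₀, hne⟩ := Submodule.exists_mem_ne_zero_of_ne_bot hbot
    have hs : snd i₀ ≠ 0 := fun h => hne (TrivSqZeroExt.ext (hfst ⟨i₀, hi₀⟩) h)
    have heI : (DualNumber.eps : DualNumber k) ∈ I := by
      have e : inl (snd i₀)⁻¹ * i₀ = DualNumber.eps := by
        refine TrivSqZeroExt.ext ?_ ?_
        · rw [fst_mul, show fst i₀ = 0 from hfst ⟨i₀, hi₀⟩, mul_zero, DualNumber.fst_eps]
        · rw [DualNumber.snd_mul, DualNumber.snd_eps, fst_inl, snd_inl, show fst i₀ = 0 from hfst ⟨i₀, hi₀⟩,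
            inv_mul_cancel₀ hs, zero_mul, add_zero]
      exact e ▸ I.mul_mem_left _ hi₀
    have hgen : ∀ w : TensorProduct (DualNumber k) I X.E, ∃ x, w = (⟨_, heI⟩ : I) ⊗ₜ x := fun w => by
      induction w using TensorProduct.induction_on with
      | zero => exact ⟨0, by rw [TensorProduct.tmul_zero]⟩
      | tmul i x =>
        refine ⟨(inl (snd (i : DualNumber k)) : DualNumber k) • x, ?_⟩
        refine Eq.trans ?_ (TensorProduct.smul_tmul (R := DualNumber k) (inl (snd (i : DualNumber k)) : DualNumber k) (⟨_, heI⟩ : I) x)
        congr 1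
        ext1
        show (i : DualNumber k) = inl (snd (i : DualNumber k)) * DualNumber.eps
        refine TrivSqZeroExt.ext ?_ ?_
        · rw [hfst i, fst_mul, DualNumber.fst_eps, mul_zero]
        · rw [DualNumber.snd_mul, DualNumber.snd_eps, fst_inl, snd_inl, DualNumber.fst_eps, mul_one, zero_mul,
            add_zero]
      | add a b ha hb =>
        obtain ⟨x, rfl⟩ := ha
        obtain ⟨y, rfl⟩ := hb
        exact ⟨x + y, (TensorProduct.tmul_add _ _ _).symm⟩
    obtain ⟨x, rfl⟩ := hgen w
    have hde : dualMap X DualNumber.eps = X.incl 1 := by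
      show algebraMap k X.E _ + algebraMap k X.E _ * _ = _
      rw [DualNumber.fst_eps, DualNumber.snd_eps, map_zero, map_one, zero_add, one_mul]
    have h1 : X.incl (X.proj x) = 0 := by
      have h2 := congrArg (TensorProduct.lid (DualNumber k) X.E) hw
      rw [LinearMap.rTensor_tmul, TensorProduct.lid_tmul, map_zero] at h2
      rw [← eps_incl, mul_comm, ← hde]
      exact h2
    rw [← map_zero X.incl] at h1
    obtain ⟨b, rfl⟩ := (X.isExtension.exact x).1 (X.isExtension.incl_injective h1)
    obtain ⟨y, rfl⟩ := X.isExtension.proj_surjective b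
    rw [← eps_incl, mul_comm, ← hde]
    refine (TensorProduct.smul_tmul (DualNumber.eps : DualNumber k) (⟨_, heI⟩ : I) y).symm.trans ?_
    rw [show (DualNumber.eps : DualNumber k) • (⟨_, heI⟩ : I) = 0 from Subtype.ext DualNumber.eps_mul_eps,
      TensorProduct.zero_tmul]
  q := X.proj.toRingHom
  surj := X.isExtension.proj_surjective
  ker := by
    refine le_antisymm (fun x hx => ?_) ?_
    · obtain ⟨b, rfl⟩ := (X.isExtension.exact x).1 hx
      obtain ⟨y, rfl⟩ := X.isExtension.proj_surjective b
      rw [← eps_incl]
      refine Ideal.mul_mem_left _ _ ?_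
      have : dualMap X DualNumber.eps = X.incl 1 := by
        show algebraMap k X.E _ + algebraMap k X.E _ * _ = _
        rw [DualNumber.fst_eps, DualNumber.snd_eps, map_zero, map_one, zero_add, one_mul]
      rw [← this]
      exact Ideal.mem_map_of_mem _ ((mem_max_iff _).2 DualNumber.fst_eps)
    · rw [Ideal.map_le_iff_le_comap]
      intro z hz
      show X.proj (algebraMap k X.E (fst z) + _ * X.incl 1) = 0
      rw [(mem_max_iff z).1 hz, map_zero, zero_add, map_mul, proj_incl, mul_zero]
  w := RingHom.ext fun z => by
    show X.proj (algebraMap k X.E (fst z) + _ * X.incl 1) = algebraMap k B (fst z)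
    rw [map_add, map_mul, proj_incl, mul_zero, add_zero, AlgHom.commutes]

/-- the bijection -/
theorem nonempty_equiv : Nonempty (Exal.Exalcom k B B ≃
    (ArtFun.defFunctor (Λ := k) (Spec (CommRingCat.of B)) (Spec.map (CommRingCat.ofHom (algebraMap k B)))).obj
      (ArtFun.Art.dual k k)) := by
  have hwd : ∀ X Y : Exal.Ext k B B, Nonempty (Exal.Ext.Equiv X Y) → (model X).cl = (model Y).cl := by
    rintro X Y ⟨e⟩
    have h := DefFun.Model.map_cl (𝟙 (ArtFun.Art.dual k k)) (model X) (model Y) e.toAlgEquiv.toRingEquiv.toRingHom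
      (RingHom.ext fun z => by
        show e.toAlgEquiv (algebraMap k X.E _ + algebraMap k X.E _ * X.incl 1) = _
        rw [map_add, map_mul, AlgEquiv.commutes, AlgEquiv.commutes, e.apply_incl]
        rfl)
      (RingHom.ext fun x => e.proj_apply x)
    rwa [CategoryTheory.Functor.map_id] at h
  refine ⟨Equiv.ofBijective (Quotient.lift (fun X => (model X).cl) hwd) ⟨fun c c' h => ?_, fun c => ?_⟩⟩
  · induction c using Quotient.inductionOn with
    | h X =>
    induction c' using Quotient.inductionOn with
    | h Y =>
    obtain ⟨d⟩ := Quotient.exact h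
    obtain ⟨m, hm⟩ := Spec.map_surjective (R := CommRingCat.of X.E) (S := CommRingCat.of Y.E) d.iso.inv
    obtain ⟨n, hn⟩ := Spec.map_surjective (R := CommRingCat.of Y.E) (S := CommRingCat.of X.E) d.iso.hom
    have hmn : m ≫ n = 𝟙 _ := Spec.map_injective (by
      rw [Spec.map_comp, hm, hn, Spec.map_id]
      exact d.iso.hom_inv_id)
    have hnm : n ≫ m = 𝟙 _ := Spec.map_injective (by
      rw [Spec.map_comp, hm, hn, Spec.map_id]
      exact d.iso.inv_hom_id)
    have hbij : Function.Bijective m.hom :=
      ⟨Function.LeftInverse.injective (g := n.hom) fun x => RingHom.congr_fun (congrArg CommRingCat.Hom.hom hmn) x,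
        Function.RightInverse.surjective (g := n.hom) fun x => RingHom.congr_fun (congrArg CommRingCat.Hom.hom hnm) x⟩
    have hφ : m.hom.comp (dualMap X) = dualMap Y := by
      have h1 : Spec.map m ≫ Spec.map (CommRingCat.ofHom (dualMap X)) = Spec.map (CommRingCat.ofHom (dualMap Y)) := by
        rw [hm, Iso.inv_comp_eq]
        exact d.hom_f.symm
      rw [← Spec.map_comp] at h1
      exact congrArg CommRingCat.Hom.hom (Spec.map_injective h1)
    have hq : ∀ x : X.E, Y.proj (m.hom x) = X.proj x := by
      have h1 : Spec.map (CommRingCat.ofHom Y.proj.toRingHom) ≫ Spec.map m =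
          Spec.map (CommRingCat.ofHom X.proj.toRingHom) := by
        rw [hm, Iso.comp_inv_eq]
        exact d.i_hom.symm
      rw [← Spec.map_comp] at h1
      exact fun x => RingHom.congr_fun (congrArg CommRingCat.Hom.hom (Spec.map_injective h1)) x
    have hk : ∀ c : k, m.hom (algebraMap k X.E c) = algebraMap k Y.E c := fun c => by
      have h1 := RingHom.congr_fun hφ (TrivSqZeroExt.inl c)
      simpa [dualMap] using h1
    refine Quotient.sound ⟨⟨AlgEquiv.ofBijective { m.hom with commutes' := hk }
      hbij, hq, fun b => ?_⟩⟩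
    obtain ⟨y, rfl⟩ := X.isExtension.proj_surjective b
    show m.hom (X.incl (X.proj y)) = Y.incl (X.proj y)
    rw [← eps_incl, map_mul, ← hq y, ← eps_incl]
    congr 1
    have h1 := RingHom.congr_fun hφ DualNumber.eps
    simpa [dualMap] using h1
  · obtain ⟨M, rfl⟩ := DefFun.exists_model c
    let φ : DualNumber k →+* M.T := M.φ
    letI : Algebra (DualNumber k) M.T := φ.toAlgebra
    letI : Algebra k M.T := (φ.comp (algebraMap k (DualNumber k))).toAlgebra
    haveI : Module.Flat (DualNumber k) M.T := M.flat
    haveI : IsArtinianRing (DualNumber k) := ArtFun.Art.isArtinianRing_tsze k k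
    haveI : IsLocalRing (DualNumber k) := (ArtFun.Art.dual k k).isLocalRing
    let ε : M.T := φ DualNumber.eps
    have hqε : M.q ε = 0 := by
      rw [← RingHom.mem_ker, M.ker]
      exact Ideal.mem_map_of_mem _ ((mem_max_iff _).2 DualNumber.fst_eps)
    have hee : ε * ε = 0 := by rw [← map_mul, DualNumber.eps_mul_eps, map_zero]
    have hker : ∀ t, M.q t = 0 → ∃ s, t = ε * s := fun t ht => by
      have h1 : t ∈ (maximalIdeal (DualNumber k)).map φ := M.ker ▸ RingHom.mem_ker.2 ht
      have h2 : (maximalIdeal (DualNumber k)).map φ ≤ Ideal.span {ε} := by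
        rw [Ideal.map_le_iff_le_comap]
        intro z hz
        rw [show z = inl (snd z) * DualNumber.eps from TrivSqZeroExt.ext
          (by rw [(mem_max_iff z).1 hz, fst_mul, DualNumber.fst_eps, mul_zero])
          (by rw [DualNumber.snd_mul, DualNumber.snd_eps, fst_inl, snd_inl, DualNumber.fst_eps, mul_one, zero_mul, add_zero]),
          Ideal.mem_comap, map_mul]
        exact Ideal.mul_mem_left _ _ (Ideal.mem_span_singleton_self ε)
      obtain ⟨s, rfl⟩ := Ideal.mem_span_singleton.1 (h2 h1)
      exact ⟨s, rfl⟩
    have hann : ∀ t, ε * t = 0 → M.q t = 0 := fun t ht => by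
      rw [← RingHom.mem_ker, M.ker]
      refine mem_map_max (A := DualNumber k) (J := ⊥) (ε := DualNumber.eps) ?_ ?_ ?_
      · rw [Ideal.mem_bot]
        exact fun h => one_ne_zero (α := k) (by simpa using congrArg snd h)
      · intro a ha
        rw [Ideal.mem_bot]
        refine TrivSqZeroExt.ext ?_ ?_
        · rw [fst_mul, DualNumber.fst_eps, mul_zero, fst_zero]
        · rw [DualNumber.snd_mul, (mem_max_iff a).1 ha, DualNumber.fst_eps, zero_mul, mul_zero, add_zero, snd_zero]
      · rw [Ideal.map_bot, Ideal.mem_bot]
        exact ht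
    have hlift : ∀ t t', M.q t = M.q t' → ε * t = ε * t' := fun t t' h => by
      obtain ⟨s, hs⟩ := hker (t - t') (by rw [map_sub, h, sub_self])
      rw [← sub_eq_zero, ← mul_sub, hs, ← mul_assoc, hee, zero_mul]
    choose L hL using M.surj
    let qA : M.T →ₐ[k] B := { M.q with commutes' := fun c => RingHom.congr_fun M.w (algebraMap k (DualNumber k) c) }
    let inc : B →+ M.T :=
      { toFun := fun b => ε * L b
        map_zero' := (hlift (L 0) 0 (by rw [hL, map_zero])).trans (mul_zero _)
        map_add' := fun a b => by rw [← mul_add]; exact hlift _ _ (by rw [hL, map_add, hL, hL]) }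
    let X : Exal.Ext k B B :=
      { E := M.T
        proj := qA
        incl := inc
        isExtension :=
          { proj_surjective := M.surj
            incl_injective := by
              rw [injective_iff_map_eq_zero]
              intro b hb
              rw [← hL b]
              exact hann _ hb
            exact := fun t => ⟨fun ht => by
              obtain ⟨s, rfl⟩ := hker t ht
              exact ⟨M.q s, hlift _ _ (hL _)⟩, by
              rintro ⟨b, rfl⟩
              show M.q (ε * L b) = 0
              rw [map_mul, hqε, zero_mul]⟩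
            mul_incl := fun t b => by
              show t * (ε * L b) = ε * L (M.q t • b)
              rw [mul_left_comm]
              exact hlift _ _ (by rw [map_mul, hL, hL, smul_eq_mul]) } }
    refine ⟨X.cl, ?_⟩
    show (model X).cl = M.cl
    have h := DefFun.Model.map_cl (𝟙 (ArtFun.Art.dual k k)) (model X) M (RingHom.id M.T) (RingHom.ext fun z => by
      show φ (algebraMap k (DualNumber k) (fst z)) + φ (algebraMap k (DualNumber k) (snd z)) * (ε * L 1) = φ z
      rw [show ε * L 1 = ε from (hlift (L 1) 1 (by rw [hL, map_one])).trans (mul_one _), ← map_mul, ← map_add]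
      congr 1
      refine TrivSqZeroExt.ext ?_ ?_ <;> simp [TrivSqZeroExt.algebraMap_eq_inl]) (RingHom.ext fun _ => rfl)
    rwa [CategoryTheory.Functor.map_id] at h

end Groth.Agent.RigidDef
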