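import Groth.Agent.ArtFlat.Basic
import Mathlib

/-!
Lifting a flat deformation of an affine algebra along a small extension when every obstruction on the
relations is a coboundary.
-/

set_option autoImplicit false
universe u
open MvPolynomial IsLocalRing

namespace Groth.Agent.RigidDef

variable {k : Type u} [Field k] {A A' : Type u} [CommRing A] [IsLocalRing A] [IsArtinianRing A]
  [CommRing A'] [IsLocalRing A'] [IsArtinianRing A'] {B₀ : Type u} [CommRing B₀] {ι σ : Type u} [Fintype σ]
  {T : Type u} [CommRing T] [Algebra A T] [Module.Flat A T]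

/-- the combination of a family with coefficients -/
noncomputable abbrev comb {R : Type u} [CommRing R] (F c : σ → R) : R := ∑ s, c s * F s

theorem comb_add {R : Type u} [CommRing R] (F c d : σ → R) : comb F (c + d) = comb F c + comb F d := by
  simp [comb, add_mul, Finset.sum_add_distrib]

theorem comb_smul {R : Type u} [CommRing R] (F : σ → R) (x : R) (c : σ → R) : comb F (x • c) = x * comb F c := by
  simp [comb, Finset.mul_sum, mul_assoc]

theorem comb_sub {R : Type u} [CommRing R] (F c d : σ → R) : comb F (c - d) = comb F c - comb F d := by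
  simp [comb, sub_mul, Finset.sum_sub_distrib]

theorem map_comb {R S : Type u} [CommRing R] [CommRing S] (h : R →+* S) (F c : σ → R) :
    h (comb F c) = comb (h ∘ F) (h ∘ c) := by
  simp [comb, map_sum]

theorem range_comb {R : Type u} [CommRing R] (F : σ → R) (x : R) :
    x ∈ Ideal.span (Set.range F) ↔ ∃ c, comb F c = x := by
  refine ⟨fun h => ?_, ?_⟩
  · obtain ⟨c, hc⟩ := Ideal.mem_span_range_iff_exists_fun.1 h
    exact ⟨c, hc⟩
  · rintro ⟨c, rfl⟩
    exact Ideal.mem_span_range_iff_exists_fun.2 ⟨c, rfl⟩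

/-- the structure found after lifting: relations lift, so the naive lift is flat -/
theorem exists_flat_lift (p : A' →+* A) (hp : Function.Surjective p) (e : A →+* k) (he : Function.Surjective e)
    (hek : RingHom.ker e = maximalIdeal A) (ε : A') (hε : RingHom.ker p = Ideal.span {ε}) (hε0 : ε ≠ 0)
    (hεm : ∀ a ∈ maximalIdeal A', a * ε = 0)
    (π : MvPolynomial ι k →+* B₀) (hπ : Function.Surjective π) (f : σ → MvPolynomial ι k)
    (hf : RingHom.ker π = Ideal.span (Set.range f))
    (q : T →+* B₀) (hq : Function.Surjective q) (hqk : RingHom.ker q = (maximalIdeal A).map (algebraMap A T))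
    (hqw : ∀ a, q (algebraMap A T a) = π (C (e a)))
    (hT : ∀ O : (σ → MvPolynomial ι k) → B₀,
      (∀ c d, comb f c = 0 → comb f d = 0 → O (c + d) = O c + O d) →
      (∀ x c, comb f c = 0 → O (x • c) = π x * O c) →
      (∀ a b, O (comb f a • b - comb f b • a) = 0) →
      ∃ b : σ → B₀, ∀ c, comb f c = 0 → O c = ∑ s, π (c s) * b s) :
    ∃ (T' : Type u) (_ : CommRing T') (_ : Algebra A' T'), Module.Flat A' T' ∧ ∃ q' : T' →+* B₀,
      Function.Surjective q' ∧ RingHom.ker q' = (maximalIdeal A').map (algebraMap A' T') ∧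
      (∀ a, q' (algebraMap A' T' a) = π (C (e (p a)))) ∧
      ∃ m : T' →+* T, (∀ a, m (algebraMap A' T' a) = algebraMap A T (p a)) ∧ q.comp m = q' := by
  classical
  have hm' : RingHom.ker (e.comp p) = maximalIdeal A' := by
    haveI : (RingHom.ker (e.comp p)).IsMaximal := RingHom.ker_isMaximal_of_surjective _ (he.comp hp)
    exact IsLocalRing.eq_maximalIdeal inferInstance
  let e₁ : MvPolynomial ι A →+* MvPolynomial ι k := MvPolynomial.map e
  let p₁ : MvPolynomial ι A' →+* MvPolynomial ι A := MvPolynomial.map p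
  let e₂ : MvPolynomial ι A' →+* MvPolynomial ι k := e₁.comp p₁
  have he₁ : Function.Surjective e₁ := MvPolynomial.map_surjective _ he
  have hp₁ : Function.Surjective p₁ := MvPolynomial.map_surjective _ hp
  -- multiplication by `ε` on polynomials over `k`
  have hεC : ∀ x : MvPolynomial ι A', e₂ x = 0 → C ε * x = 0 := fun x hx => by
    ext d
    rw [coeff_C_mul, coeff_zero, mul_comm]
    refine hεm _ ?_
    rw [← hm', RingHom.mem_ker]
    have h := congrArg (coeff d) hx
    simpa [e₂, e₁, p₁, coeff_map] using h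
  have he₂ : Function.Surjective e₂ := he₁.comp hp₁
  choose L hL using he₂
  let μ : MvPolynomial ι k → MvPolynomial ι A' := fun g => C ε * L g
  have hμ : ∀ x, C ε * x = μ (e₂ x) := fun x => by
    rw [← sub_eq_zero, ← mul_sub]; exact hεC _ (by rw [map_sub, hL, sub_self])
  have hμ0 : μ 0 = 0 := by rw [← map_zero e₂, ← hμ, mul_zero]
  have hμadd : ∀ g g', μ (g + g') = μ g + μ g' := fun g g' => by
    conv_lhs => rw [← hL g, ← hL g', ← map_add, ← hμ, mul_add]
  have hμsub : ∀ g g', μ (g - g') = μ g - μ g' := fun g g' => by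
    conv_lhs => rw [← hL g, ← hL g', ← map_sub, ← hμ, mul_sub]
  have hμmul : ∀ x g, x * μ g = μ (e₂ x * g) := fun x g => by
    conv_rhs => rw [← hL g, ← map_mul, ← hμ]
    ring
  have hμsum : ∀ g : σ → MvPolynomial ι k, μ (∑ s, g s) = ∑ s, μ (g s) := fun g =>
    map_sum (AddMonoidHom.mk' μ hμadd) g _
  have hμinj : ∀ g, μ g = 0 → g = 0 := fun g hg => by
    ext d
    rw [coeff_zero, ← hL g]
    have h := congrArg (coeff d) hg
    simp only [μ, coeff_C_mul, coeff_zero] at h
    have hmem : coeff d (L g) ∈ maximalIdeal A' := by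
      by_contra hu
      have hu' : IsUnit (coeff d (L g)) := not_not.1 fun h' => hu h'
      exact hε0 (hu'.mul_left_eq_zero.1 h)
    rw [← hm', RingHom.mem_ker] at hmem
    simpa [e₂, e₁, p₁, coeff_map] using hmem
  have hp₁μ : ∀ g, p₁ (μ g) = 0 := fun g => by
    rw [map_mul, map_C, show p ε = 0 from (hε.symm ▸ Ideal.mem_span_singleton_self ε : ε ∈ RingHom.ker p),
      map_zero, zero_mul]
  have hkp₁ : ∀ x, p₁ x = 0 → ∃ g, x = μ g := fun x hx => by
    have h1 : x ∈ RingHom.ker p₁ := hx
    rw [MvPolynomial.ker_map, hε, Ideal.map_span, Set.image_singleton, Ideal.mem_span_singleton] at h1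
    obtain ⟨y, rfl⟩ := h1
    exact ⟨_, hμ y⟩
  -- the presentation of `T`
  choose v hv using fun i => hq (π (X i))
  let ψ : MvPolynomial ι A →ₐ[A] T := aeval v
  have hψq : ∀ x, q (ψ x) = π (e₁ x) := fun x => by
    induction x using MvPolynomial.induction_on with
    | C a => simp [ψ, e₁, hqw]
    | add x y hx hy => simp [map_add, hx, hy]
    | mul_X x i hx => simp [map_mul, hx, ψ, e₁, hv]
  have hnil : IsNilpotent (maximalIdeal A) := ArtFlat.isNilpotent_maximalIdeal
  have hψs : Function.Surjective ψ := by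
    have h := ArtFlat.eq_top_of_le_sup_smul hnil (LinearMap.range ψ.toLinearMap) fun t _ => by
      obtain ⟨g, hg⟩ := hπ (q t)
      obtain ⟨x, rfl⟩ := he₁ g
      refine Submodule.mem_sup.2 ⟨ψ x, ⟨x, rfl⟩, t - ψ x, ?_, add_sub_cancel _ _⟩
      rw [Ideal.smul_top_eq_map, Submodule.restrictScalars_mem, ← hqk, RingHom.mem_ker, map_sub, hψq, hg, sub_self]
    exact fun t => h.ge (Submodule.mem_top (x := t))
  haveI : Module.Free A T := ArtFlat.free_coker hnil (0 : PUnit.{u+1} →ₗ[A] T)
    LinearMap.id Function.surjective_id (fun y => by simp [eq_comm]) (fun a b _ => Subsingleton.elim a b)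
  obtain ⟨sT, hsT⟩ := Module.projective_lifting_property ψ.toLinearMap LinearMap.id hψs
  let πI : MvPolynomial ι A →ₗ[A] MvPolynomial ι A := LinearMap.id - sT ∘ₗ ψ.toLinearMap
  have hπIψ : ∀ x, ψ (πI x) = 0 := fun x => by
    show ψ (x - sT (ψ x)) = 0
    rw [map_sub, show ψ (sT (ψ x)) = ψ x from LinearMap.congr_fun hsT (ψ x), sub_self]
  have hπI : ∀ x, ψ x = 0 → πI x = x := fun x hx => by
    show x - sT (ψ x) = x
    rw [hx, map_zero, sub_zero]
  have hker₁ : ∀ x, e₁ x = 0 → x ∈ maximalIdeal A • (⊤ : Submodule A (MvPolynomial ι A)) := fun x hx => by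
    rw [Ideal.smul_top_eq_map, Submodule.restrictScalars_mem, ← hek]
    have h1 : x ∈ RingHom.ker e₁ := hx
    rwa [MvPolynomial.ker_map] at h1
  have hker₁' : ∀ x ∈ maximalIdeal A • (⊤ : Submodule A (MvPolynomial ι A)), e₁ x = 0 := fun x hx => by
    rw [Ideal.smul_top_eq_map, Submodule.restrictScalars_mem, ← hek] at hx
    have h1 : x ∈ RingHom.ker e₁ := by rw [MvPolynomial.ker_map]; exact hx
    exact h1
  have hF : ∀ s, ∃ F, ψ F = 0 ∧ e₁ F = f s := fun s => by
    obtain ⟨g, hg⟩ := he₁ (f s)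
    refine ⟨πI g, hπIψ g, ?_⟩
    show e₁ (g - sT (ψ g)) = f s
    have h1 : ψ g ∈ maximalIdeal A • (⊤ : Submodule A T) := by
      rw [Ideal.smul_top_eq_map, Submodule.restrictScalars_mem, ← hqk, RingHom.mem_ker, hψq, hg,
        ← RingHom.mem_ker, hf]
      exact Ideal.subset_span ⟨s, rfl⟩
    have h2 : sT (ψ g) ∈ maximalIdeal A • (⊤ : Submodule A (MvPolynomial ι A)) :=
      (Submodule.map_smul'' (maximalIdeal A) ⊤ sT ▸ Submodule.smul_mono le_rfl le_top :
        (maximalIdeal A • ⊤ : Submodule A T).map sT ≤ maximalIdeal A • ⊤) (Submodule.mem_map_of_mem h1)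
    rw [map_sub, hker₁' _ h2, sub_zero, hg]
  choose F hFψ hFe using hF
  have he₁comb : ∀ c, e₁ (comb F c) = comb f (e₁ ∘ c) := fun c => by
    rw [map_comb, show (e₁ ∘ F) = f from funext hFe]
  have hψcomb : ∀ c, ψ (comb F c) = 0 := fun c => by simp [comb, map_sum, hFψ]
  let Φ : (σ → MvPolynomial ι A) →ₗ[A] MvPolynomial ι A :=
    { toFun := comb F
      map_add' := comb_add F
      map_smul' := fun a c => by simp [comb, Finset.smul_sum] }
  have hrange : ∀ x, ψ x = 0 → ∃ c, comb F c = x := by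
    let IA := LinearMap.ker ψ.toLinearMap
    have h := ArtFlat.eq_top_of_le_sup_smul hnil
      (LinearMap.range (Φ.codRestrict IA fun c => hψcomb c)) fun x _ => by
      obtain ⟨x, hx⟩ := x
      have h1 : e₁ x ∈ RingHom.ker π := by rw [RingHom.mem_ker, ← hψq, show ψ x = 0 from hx, map_zero]
      rw [hf, range_comb] at h1
      obtain ⟨c₀, hc₀⟩ := h1
      choose c hc using fun s => he₁ (c₀ s)
      refine Submodule.mem_sup.2 ⟨_, ⟨c, rfl⟩, ⟨x - comb F c, ?_⟩, ?_, Subtype.ext (add_sub_cancel _ _)⟩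
      · show ψ (x - comb F c) = 0
        rw [map_sub, hψcomb, show ψ x = 0 from hx, sub_self]
      · have h2 : x - comb F c ∈ maximalIdeal A • (⊤ : Submodule A (MvPolynomial ι A)) :=
          hker₁ _ (by rw [map_sub, he₁comb, show e₁ ∘ c = c₀ from funext hc, hc₀, sub_self])
        let P : MvPolynomial ι A →ₗ[A] IA := πI.codRestrict IA fun y => hπIψ y
        have h3 : P (x - comb F c) ∈ maximalIdeal A • (⊤ : Submodule A IA) :=
          (Submodule.map_smul'' (maximalIdeal A) ⊤ P ▸ Submodule.smul_mono le_rfl le_top :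
            (maximalIdeal A • ⊤ : Submodule A (MvPolynomial ι A)).map P ≤ maximalIdeal A • ⊤)
            (Submodule.mem_map_of_mem h2)
        convert h3 using 1
        exact Subtype.ext (hπI _ (by rw [map_sub, hψcomb, show ψ x = 0 from hx, sub_self])).symm
    intro x hx
    obtain ⟨c, hc⟩ := h.ge (Submodule.mem_top (x := (⟨x, hx⟩ : IA)))
    exact ⟨c, congrArg Subtype.val hc⟩
  obtain ⟨tΦ, htΦ⟩ := Module.projective_lifting_property
    (Φ.codRestrict (LinearMap.ker ψ.toLinearMap) fun c => hψcomb c)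
    (πI.codRestrict (LinearMap.ker ψ.toLinearMap) fun y => hπIψ y)
    (fun x => by obtain ⟨c, hc⟩ := hrange x.1 x.2; exact ⟨c, Subtype.ext hc⟩)
  have htΦ' : ∀ x, ψ x = 0 → comb F (tΦ x) = x := fun x hx =>
    (congrArg Subtype.val (LinearMap.congr_fun htΦ x)).trans (hπI x hx)
  have hm_pi : ∀ c : σ → MvPolynomial ι A, (∀ s, e₁ (c s) = 0) →
      c ∈ maximalIdeal A • (⊤ : Submodule A (σ → MvPolynomial ι A)) := fun c hc => by
    rw [← Finset.univ_sum_single c]
    refine sum_mem fun s _ => ?_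
    exact (Submodule.map_smul'' (maximalIdeal A) ⊤ (LinearMap.single A (fun _ : σ => MvPolynomial ι A) s) ▸
      Submodule.smul_mono le_rfl le_top :
        (maximalIdeal A • ⊤ : Submodule A (MvPolynomial ι A)).map (LinearMap.single A (fun _ : σ => MvPolynomial ι A) s)
          ≤ maximalIdeal A • ⊤) (Submodule.mem_map_of_mem (hker₁ _ (hc s)))
  let πN : (σ → MvPolynomial ι A) →ₗ[A] (σ → MvPolynomial ι A) := LinearMap.id - tΦ ∘ₗ Φ
  have hπN : ∀ c, comb F (πN c) = 0 := fun c => by
    show comb F (c - tΦ (comb F c)) = 0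
    rw [comb_sub, htΦ' _ (hψcomb c), sub_self]
  -- every relation lifts
  have hlift : ∀ r, comb f r = 0 → ∃ R, comb F R = 0 ∧ e₁ ∘ R = r := fun r hr => by
    choose c hc using fun s => he₁ (r s)
    have h1 : comb F c ∈ maximalIdeal A • (⊤ : Submodule A (MvPolynomial ι A)) :=
      hker₁ _ (by rw [he₁comb, show e₁ ∘ c = r from funext hc, hr])
    refine ⟨πN c, hπN c, funext fun s => ?_⟩
    show e₁ (c s - tΦ (comb F c) s) = r s
    have h2 : tΦ (comb F c) s ∈ maximalIdeal A • (⊤ : Submodule A (MvPolynomial ι A)) :=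
      (Submodule.map_smul'' (maximalIdeal A) ⊤ ((LinearMap.proj s).comp tΦ) ▸ Submodule.smul_mono le_rfl le_top :
        (maximalIdeal A • ⊤ : Submodule A (MvPolynomial ι A)).map ((LinearMap.proj s).comp tΦ) ≤ maximalIdeal A • ⊤)
        (Submodule.mem_map_of_mem h1)
    rw [map_sub, hker₁' _ h2, sub_zero, hc]
  -- the obstruction
  choose F₀ hF₀ using fun s => hp₁ (F s)
  have hF₀e : e₂ ∘ F₀ = f := funext fun s => by
    show e₁ (p₁ (F₀ s)) = f s
    rw [hF₀, hFe]
  have hp₁comb : ∀ c, p₁ (comb F₀ c) = comb F (p₁ ∘ c) := fun c => by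
    rw [map_comb, show p₁ ∘ F₀ = F from funext hF₀]
  have hobs : ∀ R', comb F (p₁ ∘ R') = 0 → ∃ g, comb F₀ R' = μ g := fun R' h => hkp₁ _ (by rw [hp₁comb, h])
  have hπf : ∀ c, π (comb f c) = 0 := fun c => by
    rw [← RingHom.mem_ker, hf, range_comb]; exact ⟨c, rfl⟩
  let Ob : (σ → MvPolynomial ι A) → B₀ → Prop := fun R b =>
    ∃ R' g, p₁ ∘ R' = R ∧ comb F₀ R' = μ g ∧ π g = b
  have obU : ∀ R b b', Ob R b → Ob R b' → b = b' := by
    rintro R b b' ⟨R', g, h1, h2, rfl⟩ ⟨R'', g', h1', h2', rfl⟩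
    choose d hd using fun s => hkp₁ (R' s - R'' s) (by
      rw [map_sub, sub_eq_zero]; exact (congrFun h1 s).trans (congrFun h1' s).symm)
    have h3 : μ (g - g') = μ (comb f d) := by
      rw [hμsub, ← h2, ← h2', ← comb_sub]
      simp only [comb, Pi.sub_apply, hd, hμsum]
      refine Finset.sum_congr rfl fun s _ => ?_
      rw [mul_comm (μ _), hμmul, mul_comm, show e₂ (F₀ s) = f s from congrFun hF₀e s]
    have h4 : g - g' = comb f d := sub_eq_zero.1 (hμinj _ (by rw [hμsub, h3, sub_self]))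
    rw [← sub_eq_zero, ← map_sub, h4, hπf]
  have obE : ∀ R, comb F R = 0 → ∃ b, Ob R b := fun R hR => by
    choose R' hR' using fun s => hp₁ (R s)
    obtain ⟨g, hg⟩ := hobs R' (by rw [show p₁ ∘ R' = R from funext hR', hR])
    exact ⟨_, R', g, funext hR', hg, rfl⟩
  have obA : ∀ R S b c, Ob R b → Ob S c → Ob (R + S) (b + c) := by
    rintro R S b c ⟨R', g, rfl, h2, rfl⟩ ⟨S', g', rfl, h2', rfl⟩
    exact ⟨R' + S', g + g', funext fun s => map_add p₁ _ _, by rw [comb_add, h2, h2', hμadd], map_add π _ _⟩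
  have obS : ∀ x R b, Ob R b → Ob (x • R) (π (e₁ x) * b) := by
    rintro x R b ⟨R', g, rfl, h2, rfl⟩
    obtain ⟨x, rfl⟩ := hp₁ x
    exact ⟨x • R', e₂ x * g, funext fun s => map_mul p₁ _ _, by rw [comb_smul, h2, hμmul], map_mul π _ _⟩
  have ob0 : ∀ R ∈ maximalIdeal A • (⊤ : Submodule A (σ → MvPolynomial ι A)), ∀ b, comb F R = 0 → Ob R b → b = 0 := by
    intro R hR
    suffices H : Ob (πN R) 0 by
      intro b hb hOb
      refine obU R b 0 hOb ?_
      have : πN R = R := by
        show R - tΦ (comb F R) = R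
        rw [hb, map_zero, sub_zero]
      rwa [this] at H
    induction hR using Submodule.smul_induction_on' with
    | smul a ha c _ =>
      obtain ⟨b, hb⟩ := obE (πN c) (hπN c)
      have h1 := obS (C a) _ _ hb
      have h2 : e₁ (C a) = 0 := by
        show MvPolynomial.map e (C a) = 0
        rw [map_C, show e a = 0 from (hek.symm ▸ ha : a ∈ RingHom.ker e), map_zero]
      rw [h2, map_zero, zero_mul] at h1
      convert h1 using 1
      rw [map_smul]
      funext s
      simp [Algebra.smul_def]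
    | add x _ y _ hx hy => rw [map_add]; simpa using obA _ _ _ _ hx hy
  have obD : ∀ R S b c, comb F R = 0 → comb F S = 0 → e₁ ∘ R = e₁ ∘ S → Ob R b → Ob S c → b = c := by
    intro R S b c hR hS h hb hc
    have h1 := obA _ _ _ _ hb (obS (-1) _ _ hc)
    have h2 : R + (-1 : MvPolynomial ι A) • S = R - S := by rw [neg_one_smul, sub_eq_add_neg]
    rw [h2] at h1
    have := ob0 (R - S) (hm_pi _ fun s => by
      rw [Pi.sub_apply, map_sub, sub_eq_zero]; exact congrFun h s) _ (by rw [comb_sub, hR, hS, sub_self]) h1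
    rw [map_neg, map_one, map_neg, map_one, neg_one_mul, ← sub_eq_add_neg, sub_eq_zero] at this
    exact this
  choose! lft hlft₁ hlft₂ using hlift
  choose! Ofun hOfun using obE
  let O : (σ → MvPolynomial ι k) → B₀ := fun r => Ofun (lft r)
  have hO : ∀ R b, comb F R = 0 → Ob R b → O (e₁ ∘ R) = b := fun R b hR hb => by
    have h0 : comb f (e₁ ∘ R) = 0 := by rw [← he₁comb, hR, map_zero]
    exact obD _ _ _ _ (hlft₁ _ h0) hR (hlft₂ _ h0) (hOfun _ (hlft₁ _ h0)) hb
  obtain ⟨bb, hbb⟩ := hT O
    (fun c d hc hd => by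
      have e : e₁ ∘ (lft c + lft d) = c + d := funext fun s => by
        simp [congrFun (hlft₂ c hc) s, ← congrFun (hlft₂ d hd) s, ← congrFun (hlft₂ c hc) s]
      rw [← e]
      exact hO _ _ (by rw [comb_add, hlft₁ c hc, hlft₁ d hd, add_zero])
        (obA _ _ _ _ (hOfun _ (hlft₁ c hc)) (hOfun _ (hlft₁ d hd))))
    (fun x c hc => by
      obtain ⟨x, rfl⟩ := he₁ x
      have e : e₁ ∘ (x • lft c) = e₁ x • c := funext fun s => by
        show e₁ (x * lft c s) = e₁ x * c s
        rw [map_mul, show e₁ (lft c s) = c s from congrFun (hlft₂ c hc) s]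
      rw [← e]
      exact hO _ _ (by rw [comb_smul, hlft₁ c hc, mul_zero]) (obS _ _ _ (hOfun _ (hlft₁ c hc))))
    (fun a b => by
      choose a' ha' using fun s => he₁ (a s)
      choose b' hb' using fun s => he₁ (b s)
      choose a'' ha'' using fun s => hp₁ (a' s)
      choose b'' hb'' using fun s => hp₁ (b' s)
      let R' := comb F₀ a'' • b'' - comb F₀ b'' • a''
      have hR'0 : comb F₀ R' = 0 := by rw [comb_sub, comb_smul, comb_smul]; ring
      have hR : comb F (p₁ ∘ R') = 0 := by rw [← hp₁comb, hR'0, map_zero]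
      have hea : ∀ s, e₂ (a'' s) = a s := fun s => by show e₁ (p₁ (a'' s)) = a s; rw [ha'', ha']
      have heb : ∀ s, e₂ (b'' s) = b s := fun s => by show e₁ (p₁ (b'' s)) = b s; rw [hb'', hb']
      have e : e₁ ∘ (p₁ ∘ R') = comb f a • b - comb f b • a := funext fun s => by
        show e₂ (comb F₀ a'' * b'' s - comb F₀ b'' * a'' s) = comb f a * b s - comb f b * a s
        rw [map_sub, map_mul, map_mul, map_comb, map_comb, hea, heb, hF₀e, show e₂ ∘ a'' = a from funext hea,
          show e₂ ∘ b'' = b from funext heb]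
      rw [← e]
      exact hO _ _ hR ⟨R', 0, rfl, by rw [hR'0, hμ0], map_zero π⟩)
  choose β hβ using fun s => hπ (bb s)
  let F' : σ → MvPolynomial ι A' := fun s => F₀ s - μ (β s)
  have hp₁F' : p₁ ∘ F' = F := funext fun s => by
    show p₁ (F₀ s - μ (β s)) = F s
    rw [map_sub, hp₁μ, sub_zero, hF₀]
  have hF'e : e₂ ∘ F' = f := funext fun s => by
    show e₁ (p₁ (F' s)) = f s
    rw [show p₁ (F' s) = F s from congrFun hp₁F' s, hFe]
  -- the relations lift
  have hvan : ∀ H g, comb F' H = μ g → π g = 0 := fun H g h => by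
    have hR : comb F (p₁ ∘ H) = 0 := by rw [← hp₁F', ← map_comb, h, hp₁μ]
    have h1 : comb F₀ H = μ (g + ∑ s, e₂ (H s) * β s) := by
      rw [hμadd, ← h, hμsum, ← Finset.sum_add_distrib]
      refine Finset.sum_congr rfl fun s _ => ?_
      rw [← hμmul]
      simp only [F']
      ring
    have h2 := hO _ _ hR ⟨H, _, rfl, h1, rfl⟩
    rw [hbb _ (by rw [← he₁comb, hR, map_zero]), map_add, map_sum] at h2
    have h3 : ∑ s, π ((e₁ ∘ (p₁ ∘ H)) s) * bb s = ∑ s, π (e₂ (H s) * β s) :=
      Finset.sum_congr rfl fun s _ => by rw [map_mul, hβ]; rfl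
    rw [h3] at h2
    linear_combination -h2
  let I' : Ideal (MvPolynomial ι A') := Ideal.span (Set.range F')
  have hμI : ∀ z, π z = 0 → μ z ∈ I' := fun z hz => by
    have h1 : z ∈ RingHom.ker π := hz
    rw [hf, range_comb] at h1
    obtain ⟨c, rfl⟩ := h1
    rw [show μ (comb f c) = ∑ s, μ (c s * f s) from hμsum _]
    refine sum_mem fun s _ => ?_
    rw [mul_comm (c s), ← congrFun hF'e s]
    show μ (e₂ (F' s) * c s) ∈ I'
    rw [← hμmul, mul_comm]
    exact I'.mul_mem_left _ (Ideal.subset_span ⟨s, rfl⟩)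
  let T' := MvPolynomial ι A' ⧸ I'
  let mk' := Ideal.Quotient.mk I'
  let m : T' →+* T := Ideal.Quotient.lift I' (ψ.toRingHom.comp p₁) fun x hx => by
    refine (Ideal.span_le.2 ?_ hx : x ∈ RingHom.ker (ψ.toRingHom.comp p₁))
    rintro _ ⟨s, rfl⟩
    show ψ (p₁ (F' s)) = 0
    rw [show p₁ (F' s) = F s from congrFun hp₁F' s, hFψ]
  have hms : Function.Surjective m := fun t => by
    obtain ⟨x, rfl⟩ := hψs t
    obtain ⟨y, rfl⟩ := hp₁ x
    exact ⟨mk' y, rfl⟩
  have hmalg : ∀ a, m (algebraMap A' T' a) = algebraMap A T (p a) := fun a => by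
    show ψ (MvPolynomial.map p (C a)) = algebraMap A T (p a)
    simp [ψ]
  have hkm : ∀ y, m y = 0 → ∃ g, y = mk' (μ g) := fun y hy => by
    obtain ⟨x, rfl⟩ := Ideal.Quotient.mk_surjective y
    obtain ⟨c, hc⟩ := hrange (p₁ x) hy
    choose c' hc' using fun s => hp₁ (c s)
    obtain ⟨g, hg⟩ := hkp₁ (x - comb F' c') (by
      rw [map_sub, map_comb, hp₁F', show p₁ ∘ c' = c from funext hc', hc, sub_self])
    refine ⟨g, (Ideal.Quotient.eq).2 ?_⟩
    rw [← hg, sub_sub_cancel]
    exact (range_comb F' _).2 ⟨c', rfl⟩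
  have hμπ : ∀ g, mk' (μ g) = 0 ↔ π g = 0 := fun g => by
    rw [Ideal.Quotient.eq_zero_iff_mem]
    refine ⟨fun h => ?_, hμI g⟩
    obtain ⟨H, hH⟩ := (range_comb F' _).1 h
    exact hvan H g hH
  have hεy : ∀ y : T', algebraMap A' T' ε * y = 0 ↔ q (m y) = 0 := fun y => by
    obtain ⟨x, rfl⟩ := Ideal.Quotient.mk_surjective y
    show mk' (C ε) * mk' x = 0 ↔ q (ψ (p₁ x)) = 0
    rw [← map_mul, hμ, hμπ, hψq]
    rfl
  refine ⟨T', inferInstance, inferInstance, ?_, q.comp m, hq.comp hms, ?_, fun a => by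
    rw [RingHom.comp_apply, hmalg, hqw], m, hmalg, rfl⟩
  · have hsmul : ∀ (a : A') (y : T'), a • y = algebraMap A' T' a * y := fun a y => by
      obtain ⟨x, rfl⟩ := Ideal.Quotient.mk_surjective y
      exact congrArg mk' (Algebra.smul_def a x)
    let b := Module.Free.chooseBasis A T
    choose b' hb' using fun j => hms (b j)
    let Λ := Finsupp.linearCombination A' b'
    have hmΛ : ∀ c, m (Λ c) = c.sum fun j a => algebraMap A T (p a) * b j := fun c => by
      rw [Finsupp.linearCombination_apply, map_finsuppSum]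
      refine Finsupp.sum_congr fun j _ => ?_
      rw [hsmul, map_mul, hmalg, hb']
    have hmΛ' : ∀ c, m (Λ c) = Finsupp.linearCombination A b (c.mapRange p (map_zero p)) := fun c => by
      rw [hmΛ, Finsupp.linearCombination_apply, Finsupp.sum_mapRange_index (fun _ => by simp)]
      exact Finsupp.sum_congr fun j _ => (Algebra.smul_def _ _).symm
    haveI : Module.Free A' T' := Module.Free.of_equiv (LinearEquiv.ofBijective Λ ⟨?_, ?_⟩)
    · infer_instance
    · rw [injective_iff_map_eq_zero]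
      intro c hc
      have h1 : c.mapRange p (map_zero p) = 0 := by
        refine b.repr.symm.injective ?_
        rw [map_zero, b.repr_symm_apply, ← hmΛ', hc, map_zero]
      have h2 : ∀ j, c j ∈ RingHom.ker p := fun j => by
        have := DFunLike.congr_fun h1 j
        simpa using this
      simp_rw [hε, Ideal.mem_span_singleton'] at h2
      choose d hd using h2
      let c₁ : _ →₀ A' := Finsupp.onFinset c.support (fun j => if c j = 0 then 0 else d j) fun j hj => by
        rw [Finsupp.mem_support_iff]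
        intro h
        simp [h] at hj
      have hc₁ : c = ε • c₁ := Finsupp.ext fun j => by
        by_cases h : c j = 0
        · simp [c₁, h]
        · simp [c₁, h, mul_comm ε, hd]
      have h3 : q (m (Λ c₁)) = 0 := (hεy _).1 (by rw [← hsmul, ← map_smul, ← hc₁, hc])
      rw [hmΛ', ← RingHom.mem_ker, hqk, ← Submodule.restrictScalars_mem A, ← Ideal.smul_top_eq_map] at h3
      have h4 : ∀ t ∈ maximalIdeal A • (⊤ : Submodule A T), ∀ j, b.repr t j ∈ maximalIdeal A := by
        intro t ht j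
        induction ht using Submodule.smul_induction_on' with
        | smul a ha x _ => rw [map_smul, Finsupp.smul_apply, smul_eq_mul]; exact Ideal.mul_mem_right _ _ ha
        | add x _ y _ hx hy => rw [map_add, Finsupp.add_apply]; exact add_mem hx hy
      refine hc₁.trans (Finsupp.ext fun j => ?_)
      have h5 := h4 _ h3 j
      rw [b.repr_linearCombination, Finsupp.mapRange_apply] at h5
      rw [Finsupp.smul_apply, Finsupp.zero_apply, smul_eq_mul, mul_comm]
      refine hεm _ ?_
      rw [← hm', RingHom.mem_ker]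
      show e (p (c₁ j)) = 0
      rw [← RingHom.mem_ker, hek]
      exact h5
    · intro y
      have hex : ∀ t : T, ∃ c, m (Λ c) = t := fun t => by
        obtain ⟨c, hc⟩ := Finsupp.mapRange_surjective p (map_zero p) hp (b.repr t)
        exact ⟨c, by rw [hmΛ', hc, b.linearCombination_repr]⟩
      obtain ⟨c, hc⟩ := hex (m y)
      obtain ⟨g, hg⟩ := hkm (y - Λ c) (by rw [map_sub, hc, sub_self])
      obtain ⟨t, ht⟩ := hq (π g)
      obtain ⟨c₂, hc₂⟩ := hex t
      refine ⟨c + ε • c₂, ?_⟩
      obtain ⟨x, hx⟩ := Ideal.Quotient.mk_surjective (Λ c₂)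
      rw [map_add, map_smul, hsmul, ← hx]
      have h1 : algebraMap A' T' ε * mk' x = mk' (μ g) := by
        show mk' (C ε) * mk' x = _
        rw [← map_mul, hμ, ← sub_eq_zero, ← map_sub, ← hμsub, hμπ, map_sub, sub_eq_zero, ← ht, ← hc₂, ← hx]
        exact (hψq (p₁ x)).symm
      rw [h1, ← hg, add_sub_cancel]
  · refine le_antisymm (fun y hy => ?_) ?_
    · have h1 : m y ∈ (maximalIdeal A).map (algebraMap A T) := hqk ▸ hy
      have h2 : (maximalIdeal A).map (algebraMap A T) = ((maximalIdeal A').map (algebraMap A' T')).map m := by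
        rw [Ideal.map_map, show m.comp (algebraMap A' T') = (algebraMap A T).comp p from RingHom.ext hmalg,
          ← Ideal.map_map, ← hm', ← hek, ← RingHom.comap_ker, Ideal.map_comap_of_surjective _ hp]
      rw [h2, Ideal.mem_map_iff_of_surjective _ hms] at h1
      obtain ⟨z, hz, hzy⟩ := h1
      obtain ⟨g, hg⟩ := hkm (y - z) (by rw [map_sub, hzy, sub_self])
      have h3 : mk' (μ g) ∈ (maximalIdeal A').map (algebraMap A' T') := by
        rw [map_mul]
        refine Ideal.mul_mem_right _ _ (Ideal.mem_map_of_mem (algebraMap A' T') ?_)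
        rw [← hm', RingHom.mem_ker]
        show e (p ε) = 0
        rw [show p ε = 0 from (hε.symm ▸ Ideal.mem_span_singleton_self ε : ε ∈ RingHom.ker p), map_zero]
      rw [← hg] at h3
      have := add_mem h3 hz
      rwa [sub_add_cancel] at this
    · rw [Ideal.map_le_iff_le_comap]
      intro a ha
      rw [← hm', RingHom.mem_ker] at ha
      show q (m (algebraMap A' T' a)) = 0
      rw [hmalg, hqw, show e (p a) = 0 from ha, map_zero, map_zero]

end Groth.Agent.RigidDef
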