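import Groth.Agent.RigidDef.Torsor
import Groth.Agent.RigidDef.Relations

/-!
The obstruction in `T²` to lifting a flat deformation of an affine algebra along a semismall extension,
one linear form on the kernel at a time.
-/

set_option autoImplicit false
set_option linter.style.haveILetI false
universe u
open TensorProduct MvPolynomial IsLocalRing CotT

namespace Groth.Agent.RigidDef

variable {k B₀ : Type u} [Field k] [CommRing B₀] [Algebra k B₀] {ι σ : Type u} [Fintype σ]
  (P : Algebra.Presentation k B₀ ι σ)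

/-- the relations, in the polynomial ring -/
abbrev fRel : σ → MvPolynomial ι k := P.relation

theorem π₀_eq (x : MvPolynomial ι k) : algebraMap P.toExtension.Ring B₀ x = Small.π₀ P x :=
  CotT.algebraMap_toExtension P x

theorem ker_π₀ : RingHom.ker (Small.π₀ P) = Ideal.span (Set.range (fRel P)) := by
  rw [fRel, P.span_range_relation_eq_ker, Algebra.Generators.ker_eq_ker_aeval_val]
  rfl

theorem π₀_comb (c : σ → MvPolynomial ι k) : Small.π₀ P (comb (fRel P) c) = 0 := by
  rw [← RingHom.mem_ker, ker_π₀, range_comb]; exact ⟨c, rfl⟩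

/-- tuples as elements of the free module -/
noncomputable def toRel : (σ → P.toExtension.Ring) ≃ₗ[P.toExtension.Ring] relMod P :=
  (Finsupp.linearEquivFunOnFinite P.toExtension.Ring P.toExtension.Ring σ).symm

theorem jmap_toRel (c : σ → MvPolynomial ι k) : jmap P (toRel P c) = comb (fRel P) c := by
  have hj : ∀ r : relMod P, jmap P r = ∑ s, r s * rel P s := fun r => by
    simp only [jmap, Finsupp.linearCombination_apply]
    exact Finsupp.sum_fintype _ _ (fun i => zero_smul _ (rel P i))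
  rw [hj]
  rfl

/-- the class of a relation in `L₂` -/
noncomputable def rk (c : σ → MvPolynomial ι k) (h : comb (fRel P) c = 0) : L2 P :=
  Submodule.Quotient.mk ((1 : B₀) ⊗ₜ (⟨toRel P c, (jmap_toRel P c).trans h⟩ : relKer P))

theorem L2_ext {Ψ Ψ' : L2 P →ₗ[B₀] B₀} (h : ∀ c hc, Ψ (rk P c hc) = Ψ' (rk P c hc)) : Ψ = Ψ' := by
  refine Submodule.linearMap_qext _ (TensorProduct.AlgebraTensorModule.ext fun b r => ?_)
  have e : b ⊗ₜ[P.toExtension.Ring] r = b • ((1 : B₀) ⊗ₜ[P.toExtension.Ring] r) := by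
    rw [TensorProduct.smul_tmul', smul_eq_mul, mul_one]
  simp only [LinearMap.comp_apply, e, map_smul, Submodule.mkQ_apply, Submodule.Quotient.mk_smul]
  congr 1
  obtain ⟨r, hr⟩ := r
  obtain ⟨c, rfl⟩ := (toRel P).surjective r
  exact h c ((jmap_toRel P c).symm.trans hr)

/-- a functional on relations killing trivial relations descends to `L₂` -/
theorem exists_L2 (O : (σ → MvPolynomial ι k) → B₀)
    (hadd : ∀ c d, comb (fRel P) c = 0 → comb (fRel P) d = 0 → O (c + d) = O c + O d)
    (hsmul : ∀ x c, comb (fRel P) c = 0 → O (x • c) = Small.π₀ P x * O c)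
    (htriv : ∀ a b, O (comb (fRel P) a • b - comb (fRel P) b • a) = 0) :
    ∃ Ψ : L2 P →ₗ[B₀] B₀, ∀ c hc, Ψ (rk P c hc) = O c := by
  classical
  let e := (toRel P).symm
  have hrel : ∀ r : relKer P, comb (fRel P) (e r.1) = 0 := fun r => by
    rw [← jmap_toRel, LinearEquiv.apply_symm_apply]; exact r.2
  let φ : relKer P →ₗ[P.toExtension.Ring] B₀ :=
    { toFun := fun r => O (e r.1)
      map_add' := fun r r' => by
        show O (e (r.1 + r'.1)) = _
        rw [map_add]
        exact hadd _ _ (hrel r) (hrel r')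
      map_smul' := fun x r => by
        show O (e (x • r.1)) = x • O (e r.1)
        rw [map_smul]
        refine (hsmul x _ (hrel r)).trans ?_
        rw [← π₀_eq]
        exact (Algebra.smul_def _ _).symm }
  have hφ0 : LinearMap.range ((trivRelKer P).subtype.baseChange B₀) ≤ LinearMap.ker (φ.liftBaseChange B₀) := by
    rw [LinearMap.range_le_ker_iff]
    refine TensorProduct.AlgebraTensorModule.ext fun b y => ?_
    simp only [LinearMap.comp_apply, LinearMap.baseChange_tmul, LinearMap.liftBaseChange_tmul,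
      LinearMap.zero_apply]
    suffices hy0 : φ ((trivRelKer P).subtype y) = 0 by rw [hy0, smul_zero]
    have hy : ((y : relKer P) : relMod P) ∈ trivRel P := y.2
    have key : ∀ z ∈ trivRel P, comb (fRel P) (e z) = 0 ∧ O (e z) = 0 := by
      intro z hz
      induction hz using Submodule.span_induction with
      | mem z hz =>
        obtain ⟨a, b, rfl⟩ := hz
        obtain ⟨a, rfl⟩ := (toRel P).surjective a
        obtain ⟨b, rfl⟩ := (toRel P).surjective b
        rw [jmap_toRel, jmap_toRel, ← map_smul, ← map_smul, ← map_sub, LinearEquiv.symm_apply_apply]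
        refine ⟨(comb_sub (fRel P) _ _).trans ?_, htriv a b⟩
        exact (congrArg₂ (fun x y : MvPolynomial ι k => x - y) (comb_smul (fRel P) _ _) (comb_smul (fRel P) _ _)).trans
          (sub_eq_zero.2 (mul_comm _ _))
      | zero =>
        have h0 : comb (fRel P) (0 : σ → MvPolynomial ι k) = 0 := by simp [comb]
        have h := hadd 0 0 h0 h0
        rw [add_zero] at h
        rw [map_zero]
        exact ⟨h0, left_eq_add.1 h⟩
      | add z z' _ _ hz hz' =>
        rw [map_add]
        exact ⟨(comb_add (fRel P) (e z) (e z')).trans (by rw [hz.1, hz'.1, add_zero]),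
          (hadd _ _ hz.1 hz'.1).trans (by rw [hz.2, hz'.2, add_zero])⟩
      | smul x z _ hz =>
        rw [map_smul]
        exact ⟨(comb_smul (fRel P) x (e z)).trans (by rw [hz.1]; exact mul_zero _),
          (hsmul x _ hz.1).trans (by rw [hz.2, mul_zero])⟩
    exact (key _ hy).2
  refine ⟨Submodule.liftQ _ (φ.liftBaseChange B₀) hφ0, fun c hc => ?_⟩
  show φ.liftBaseChange B₀ ((1 : B₀) ⊗ₜ _) = O c
  rw [LinearMap.liftBaseChange_tmul, one_smul]
  show O (e (toRel P c)) = O c
  rw [LinearEquiv.symm_apply_apply]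

/-- the value of a coboundary on a relation -/
theorem apply_d2_rk (h : L1 P →ₗ[B₀] B₀) (c : σ → MvPolynomial ι k) (hc : comb (fRel P) c = 0) :
    h (d2 P (rk P c hc)) = ∑ s, Small.π₀ P (c s) * h (L1basis P s) := by
  rw [rk, d2_mk_tmul]
  let g : relMod P →ₗ[P.toExtension.Ring] B₀ :=
    (h.restrictScalars P.toExtension.Ring).comp (TensorProduct.mk P.toExtension.Ring B₀ (relMod P) 1)
  show g (toRel P c) = _
  conv_lhs => rw [← Finsupp.univ_sum_single (toRel P c), map_sum]
  refine Finset.sum_congr rfl fun s _ => ?_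
  rw [show Finsupp.single s (toRel P c s) = (toRel P c s) • Finsupp.single s (1 : P.toExtension.Ring) by
      rw [Finsupp.smul_single, smul_eq_mul, mul_one], map_smul, Algebra.smul_def, L1basis_apply]
  rw [← π₀_eq]
  rfl

namespace Small

variable (S : Small k B₀) {P}

variable (P) in
/-- lifted equations of the deformation -/
def IsEqns (F : σ → MvPolynomial ι S.R) : Prop := ∀ s, S.ψT P (F s) = 0 ∧ S.e₁ (F s) = fRel P s

variable (P) in
theorem exists_eqns : ∃ F, IsEqns P S F := by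
  suffices H : ∀ s, ∃ y, S.ψT P y = 0 ∧ S.e₁ y = fRel P s by
    choose F hF using H
    exact ⟨F, hF⟩
  intro s
  obtain ⟨y, hy⟩ := S.e₁_surj (fRel P s)
  refine ⟨S.πI P y, S.ψT_πI P y, ?_⟩
  have hm : S.ψT P y ∈ maximalIdeal S.R • (⊤ : Submodule S.R S.T) := by
    rw [Ideal.smul_top_eq_map, Submodule.restrictScalars_mem, ← S.q_ker, RingHom.mem_ker, S.q_ψT, hy,
      ← RingHom.mem_ker, ker_π₀]
    exact Ideal.subset_span ⟨s, rfl⟩
  have h2 := (Submodule.map_smul'' (maximalIdeal S.R) ⊤ (S.sT P) ▸ Submodule.smul_mono le_rfl le_top :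
    (maximalIdeal S.R • ⊤ : Submodule S.R S.T).map (S.sT P) ≤ maximalIdeal S.R • ⊤) (Submodule.mem_map_of_mem hm)
  rw [← S.mem_smul_top] at h2
  show S.e₁ (y - S.sT P (S.ψT P y)) = fRel P s
  rw [map_sub, h2, sub_zero, hy]

variable {F : σ → MvPolynomial ι S.R} (hF : IsEqns P S F)
include hF

theorem e₁_comb (c : σ → MvPolynomial ι S.R) : S.e₁ (comb F c) = comb (fRel P) (S.e₁ ∘ c) := by
  rw [map_comb, show S.e₁ ∘ F = fRel P from funext fun s => (hF s).2]

theorem ψT_comb (c : σ → MvPolynomial ι S.R) : S.ψT P (comb F c) = 0 := by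
  simp [comb, map_sum, (hF _).1]

theorem exists_comb {x : MvPolynomial ι S.R} (hx : S.ψT P x = 0) : ∃ c, comb F c = x := by
  classical
  let IA := LinearMap.ker (S.ψT P).toLinearMap
  let Φ : (σ → MvPolynomial ι S.R) →ₗ[S.R] MvPolynomial ι S.R :=
    { toFun := comb F
      map_add' := comb_add F
      map_smul' := fun a c => by simp [comb, Finset.smul_sum] }
  have h := ArtFlat.eq_top_of_le_sup_smul (ArtFlat.isNilpotent_maximalIdeal (A := S.R))
    (LinearMap.range (Φ.codRestrict IA fun c => S.ψT_comb hF c)) fun x _ => by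
    obtain ⟨x, hx⟩ := x
    have hx' : S.ψT P x = 0 := hx
    have h1 : S.e₁ x ∈ RingHom.ker (π₀ P) := by rw [RingHom.mem_ker, ← S.q_ψT, hx', map_zero]
    rw [ker_π₀, range_comb] at h1
    obtain ⟨c₀, hc₀⟩ := h1
    choose c hc using fun s => S.e₁_surj (c₀ s)
    refine Submodule.mem_sup.2 ⟨_, ⟨c, rfl⟩, ⟨x - comb F c, ?_⟩, ?_, Subtype.ext (add_sub_cancel _ _)⟩
    · show S.ψT P (x - comb F c) = 0
      rw [map_sub, S.ψT_comb hF, hx', sub_self]
    · have h2 : x - comb F c ∈ maximalIdeal S.R • (⊤ : Submodule S.R (MvPolynomial ι S.R)) :=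
        S.mem_smul_top.1 (by rw [map_sub, S.e₁_comb hF, show S.e₁ ∘ c = c₀ from funext hc, hc₀, sub_self])
      let Q : MvPolynomial ι S.R →ₗ[S.R] IA := (S.πI P).codRestrict IA fun y => S.ψT_πI P y
      have h3 : Q (x - comb F c) ∈ maximalIdeal S.R • (⊤ : Submodule S.R IA) :=
        (Submodule.map_smul'' (maximalIdeal S.R) ⊤ Q ▸ Submodule.smul_mono le_rfl le_top :
          (maximalIdeal S.R • ⊤ : Submodule S.R (MvPolynomial ι S.R)).map Q ≤ maximalIdeal S.R • ⊤)
          (Submodule.mem_map_of_mem h2)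
      convert h3 using 1
      exact Subtype.ext (S.πI_eq P (by rw [map_sub, S.ψT_comb hF, hx', sub_self])).symm
  obtain ⟨c, hc⟩ := h.ge (Submodule.mem_top (x := (⟨x, hx⟩ : IA)))
  exact ⟨c, congrArg Subtype.val hc⟩

/-- a projection onto the relations of the lifted equations -/
theorem exists_proj : ∃ N : (σ → MvPolynomial ι S.R) →ₗ[S.R] (σ → MvPolynomial ι S.R),
    (∀ c, comb F (N c) = 0) ∧ (∀ c, comb F c = 0 → N c = c) ∧
      ∀ c, comb (fRel P) (S.e₁ ∘ c) = 0 → S.e₁ ∘ N c = S.e₁ ∘ c := by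
  classical
  let IA := LinearMap.ker (S.ψT P).toLinearMap
  let Φ : (σ → MvPolynomial ι S.R) →ₗ[S.R] MvPolynomial ι S.R :=
    { toFun := comb F
      map_add' := comb_add F
      map_smul' := fun a c => by simp [comb, Finset.smul_sum] }
  obtain ⟨t, ht⟩ := Module.projective_lifting_property (Φ.codRestrict IA fun c => S.ψT_comb hF c)
    ((S.πI P).codRestrict IA fun y => S.ψT_πI P y)
    (fun x => by obtain ⟨c, hc⟩ := S.exists_comb hF x.2; exact ⟨c, Subtype.ext hc⟩)
  have ht' : ∀ x, S.ψT P x = 0 → comb F (t x) = x := fun x hx =>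
    (congrArg Subtype.val (LinearMap.congr_fun ht x)).trans (S.πI_eq P hx)
  refine ⟨LinearMap.id - t ∘ₗ Φ, fun c => ?_, fun c hc => ?_, fun c hc => funext fun s => ?_⟩
  · show comb F (c - t (comb F c)) = 0
    rw [comb_sub, ht' _ (S.ψT_comb hF c), sub_self]
  · show c - t (comb F c) = c
    rw [hc, map_zero, sub_zero]
  · show S.e₁ (c s - t (comb F c) s) = S.e₁ (c s)
    have h1 : comb F c ∈ maximalIdeal S.R • (⊤ : Submodule S.R (MvPolynomial ι S.R)) :=
      S.mem_smul_top.1 (by rw [S.e₁_comb hF, hc])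
    have h2 := (Submodule.map_smul'' (maximalIdeal S.R) ⊤ ((LinearMap.proj s).comp t) ▸
        Submodule.smul_mono le_rfl le_top :
        (maximalIdeal S.R • ⊤ : Submodule S.R (MvPolynomial ι S.R)).map ((LinearMap.proj s).comp t) ≤
          maximalIdeal S.R • ⊤) (Submodule.mem_map_of_mem h1)
    rw [map_sub, show S.e₁ (t (comb F c) s) = 0 from S.mem_smul_top.2 h2, sub_zero]

omit hF

/-- elements killed by `p`, spanned by `a j` -/
theorem ker_induction {motive : MvPolynomial ι S.R' → Prop}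
    (hm : ∀ (a : MvPolynomial ι S.R') (j : S.J), motive (a * C (j : S.R')))
    (hz : motive 0) (ha : ∀ x y, motive x → motive y → motive (x + y))
    {x : MvPolynomial ι S.R'} (hx : S.p₁ x = 0) : motive x := by
  have h : x ∈ S.J.map (C (R := S.R') (σ := ι)) := by
    rw [show S.J.map (C (R := S.R') (σ := ι)) = RingHom.ker (MvPolynomial.map S.p) from (MvPolynomial.ker_map _).symm]
    exact hx
  suffices H : ∀ a, motive (a * x) by simpa using H 1
  clear hx
  induction h using Submodule.span_induction with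
  | mem x hx =>
    obtain ⟨j, hj, rfl⟩ := hx
    exact fun a => hm a ⟨j, hj⟩
  | zero => exact fun a => by rwa [mul_zero]
  | add x y _ _ hx hy => exact fun a => by rw [mul_add]; exact ha _ _ (hx a) (hy a)
  | smul b x _ hx => exact fun a => by rw [smul_eq_mul, ← mul_assoc]; exact hx _

/-- a linear form on the kernel, applied to coefficients -/
noncomputable def lam (ℓ : Module.Dual k S.J) : MvPolynomial ι S.R' →+ MvPolynomial ι k where
  toFun x := (MvPolynomial.basisMonomials ι k).repr.symm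
    (((MvPolynomial.basisMonomials ι S.R').repr x).mapRange
      (LinearMap.exists_extend (p := (S.J).restrictScalars k) ℓ).choose (map_zero _))
  map_zero' := by simp
  map_add' x y := by rw [map_add, Finsupp.mapRange_add (map_add _), map_add]

theorem coeff_lam (ℓ : Module.Dual k S.J) (x : MvPolynomial ι S.R') (d : ι →₀ ℕ) (hd : coeff d x ∈ S.J) :
    coeff d (S.lam ℓ x) = ℓ ⟨coeff d x, hd⟩ := by
  have h := LinearMap.congr_fun (LinearMap.exists_extend (p := (S.J).restrictScalars k) ℓ).choose_spec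
    ⟨coeff d x, hd⟩
  refine Eq.trans ?_ h
  rfl

theorem lam_mul_C (ℓ : Module.Dual k S.J) (a : MvPolynomial ι S.R') (j : S.J) :
    S.lam ℓ (a * C (j : S.R')) = C (ℓ j) * S.e₂ a := by
  ext d
  have hc : coeff d (a * C (j : S.R')) = coeff d a * j := by rw [mul_comm, coeff_C_mul, mul_comm]
  have hmem : coeff d (a * C (j : S.R')) ∈ S.J := by rw [hc]; exact Ideal.mul_mem_left _ _ j.2
  rw [S.coeff_lam ℓ _ d hmem, coeff_C_mul, mul_comm (ℓ j)]
  rw [show (⟨_, hmem⟩ : S.J) = S.e' (coeff d a) • j from Subtype.ext (hc.trans (S.coe_smul_eq _ j).symm),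
    map_smul, smul_eq_mul]
  simp [e₂, e₁, p₁, coeff_map]

theorem lam_mul (ℓ : Module.Dual k S.J) (a x : MvPolynomial ι S.R') (hx : S.p₁ x = 0) :
    S.lam ℓ (a * x) = S.e₂ a * S.lam ℓ x := by
  revert a
  refine S.ker_induction (motive := fun x => ∀ a, S.lam ℓ (a * x) = S.e₂ a * S.lam ℓ x) (fun b j a => ?_)
    (fun a => by simp) (fun x y h h' a => by rw [mul_add, map_add, map_add, h, h', mul_add]) hx
  rw [← mul_assoc, S.lam_mul_C, S.lam_mul_C, map_mul]
  ring

theorem p₁_mul_J (a : MvPolynomial ι S.R') (j : S.J) : S.p₁ (a * C (j : S.R')) = 0 := by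
  rw [map_mul, p₁, map_C, show S.p (j : S.R') = 0 from j.2, map_zero, mul_zero]

/-- evaluation of the kernel through the coefficient module -/
theorem exists_ev {L : S.Lft} {v : ι → L.T'} (hv : IsCoord P L v) {x : MvPolynomial ι S.R'} (hx : S.p₁ x = 0) :
    ∃ z, ev L v x = L.κ z ∧ ∀ ℓ, π₀ P (S.lam ℓ x) = TensorProduct.rid k B₀ (LinearMap.lTensor B₀ ℓ z) := by
  refine S.ker_induction (motive := fun x => ∃ z, ev L v x = L.κ z ∧
      ∀ ℓ, π₀ P (S.lam ℓ x) = TensorProduct.rid k B₀ (LinearMap.lTensor B₀ ℓ z))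
    (fun a j => ⟨π₀ P (S.e₂ a) ⊗ₜ j, ?_, fun ℓ => ?_⟩)
    ⟨0, by simp, fun ℓ => by simp⟩
    (fun x y ⟨z, h1, h2⟩ ⟨z', h1', h2'⟩ => ⟨z + z', by rw [map_add, map_add, h1, h1'],
      fun ℓ => by rw [map_add, map_add, h2, h2', map_add, map_add]⟩) hx
  · rw [L.κ_tmul _ j (qm_ev P hv a), map_mul, mul_comm]
    simp
  · rw [S.lam_mul_C, map_mul, LinearMap.lTensor_tmul, TensorProduct.rid_tmul, Algebra.smul_def]
    simp

variable (F) in
/-- `Ψ` records the obstruction of the lifts `F₀` seen through `ℓ` -/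
def Good (ℓ : Module.Dual k S.J) (F₀ : σ → MvPolynomial ι S.R') (Ψ : L2 P →ₗ[B₀] B₀) : Prop :=
  ∀ (R' : σ → MvPolynomial ι S.R') (_ : comb F (S.p₁ ∘ R') = 0) (hc : comb (fRel P) (S.e₂ ∘ R') = 0),
    Ψ (rk P (S.e₂ ∘ R') hc) = π₀ P (S.lam ℓ (comb F₀ R'))

section
variable {ℓ : Module.Dual k S.J} {F₀ : σ → MvPolynomial ι S.R'} (hF₀ : S.p₁ ∘ F₀ = F)
include hF₀

theorem p₁_comb₀ (c : σ → MvPolynomial ι S.R') : S.p₁ (comb F₀ c) = comb F (S.p₁ ∘ c) := by
  rw [map_comb, hF₀]

include hF in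
theorem e₂_F₀ : S.e₂ ∘ F₀ = fRel P := funext fun s => by
  show S.e₁ (S.p₁ (F₀ s)) = fRel P s
  rw [show S.p₁ (F₀ s) = F s from congrFun hF₀ s, (hF s).2]

include hF in
theorem e₂_comb₀ {R' : σ → MvPolynomial ι S.R'} (h : comb F (S.p₁ ∘ R') = 0) :
    comb (fRel P) (S.e₂ ∘ R') = 0 := by
  rw [← S.e₂_F₀ hF hF₀, ← map_comb, e₂, RingHom.comp_apply, S.p₁_comb₀ hF₀, h, map_zero]

include hF

theorem exists_good : ∃ Ψ : L2 P →ₗ[B₀] B₀, S.Good F ℓ F₀ Ψ := by
  classical
  let V : (σ → MvPolynomial ι S.R') → B₀ := fun R' => π₀ P (S.lam ℓ (comb F₀ R'))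
  have hVadd : ∀ R R', V (R + R') = V R + V R' := fun R R' => by simp only [V, comb_add, map_add]
  have hVsub : ∀ R R', V (R - R') = V R - V R' := fun R R' => by simp only [V, comb_sub, map_sub]
  have hVsmul : ∀ x R', comb F (S.p₁ ∘ R') = 0 → V (x • R') = π₀ P (S.e₂ x) * V R' := fun x R' h => by
    simp only [V]
    rw [comb_smul, S.lam_mul ℓ x _ (by rw [S.p₁_comb₀ hF₀, h]), map_mul]
  have hVker : ∀ R', S.p₁ ∘ R' = 0 → V R' = 0 := fun R' h => by
    show π₀ P (S.lam ℓ (∑ s, R' s * F₀ s)) = 0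
    rw [map_sum, map_sum]
    refine Finset.sum_eq_zero fun s _ => ?_
    rw [mul_comm (R' s), S.lam_mul ℓ _ _ (congrFun h s), map_mul,
      show S.e₂ (F₀ s) = fRel P s from congrFun (S.e₂_F₀ hF hF₀) s,
      show π₀ P (fRel P s) = 0 from by rw [← RingHom.mem_ker, ker_π₀]; exact Ideal.subset_span ⟨s, rfl⟩, zero_mul]
  have hVcongr : ∀ R R', S.p₁ ∘ R = S.p₁ ∘ R' → V R = V R' := fun R R' h => by
    rw [← sub_eq_zero, ← hVsub]
    exact hVker _ (funext fun s => by
      show S.p₁ (R s - R' s) = 0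
      rw [map_sub, sub_eq_zero]; exact congrFun h s)
  obtain ⟨N, hN1, hN2, hN3⟩ := S.exists_proj hF
  choose up hup using fun R : σ → MvPolynomial ι S.R =>
    (show ∃ R', S.p₁ ∘ R' = R from by
      choose R' hR' using fun s => S.p₁_surj (R s)
      exact ⟨R', funext hR'⟩)
  let W : (σ → MvPolynomial ι S.R) → B₀ := fun R => V (up R)
  have hW : ∀ R', W (S.p₁ ∘ R') = V R' := fun R' => hVcongr _ _ (hup _)
  have hWadd : ∀ R R', W (R + R') = W R + W R' := fun R R' => by
    show V (up (R + R')) = V (up R) + V (up R')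
    rw [← hVadd]
    refine hVcongr _ _ ((hup _).trans (funext fun s => ?_))
    show R s + R' s = S.p₁ (up R s + up R' s)
    rw [map_add, show S.p₁ (up R s) = R s from congrFun (hup R) s,
      show S.p₁ (up R' s) = R' s from congrFun (hup R') s]
  have hWsmul : ∀ x R, comb F R = 0 → W (x • R) = π₀ P (S.e₁ x) * W R := fun x R h => by
    obtain ⟨x, rfl⟩ := S.p₁_surj x
    rw [show π₀ P (S.e₁ (S.p₁ x)) * W R = V (x • up R) from (hVsmul x _ (by rw [hup, h])).symm]
    refine hVcongr _ _ ((hup _).trans (funext fun s => ?_))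
    show S.p₁ x * R s = S.p₁ (x * up R s)
    rw [map_mul, show S.p₁ (up R s) = R s from congrFun (hup R) s]
  have hW0 : ∀ R ∈ maximalIdeal S.R • (⊤ : Submodule S.R (σ → MvPolynomial ι S.R)), W (N R) = 0 := by
    intro R hR
    induction hR using Submodule.smul_induction_on' with
    | smul a ha c _ =>
      rw [map_smul, show a • N c = (C a : MvPolynomial ι S.R) • N c from funext fun s => by simp [Algebra.smul_def],
        hWsmul _ _ (hN1 c)]
      rw [show S.e₁ (C a : MvPolynomial ι S.R) = 0 by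
        rw [e₁, map_C, show S.e a = 0 from (S.e_ker.symm ▸ ha : a ∈ RingHom.ker S.e), map_zero], map_zero, zero_mul]
    | add x _ y _ hx hy => rw [map_add, hWadd, hx, hy, add_zero]
  have hWcongr : ∀ R R', comb F R = 0 → comb F R' = 0 → S.e₁ ∘ R = S.e₁ ∘ R' → W R = W R' := by
    intro R R' hR hR' h
    have hm : R - R' ∈ maximalIdeal S.R • (⊤ : Submodule S.R (σ → MvPolynomial ι S.R)) := by
      rw [← Finset.univ_sum_single (R - R')]
      refine sum_mem fun s _ => ?_
      exact (Submodule.map_smul'' (maximalIdeal S.R) ⊤ (LinearMap.single S.R (fun _ : σ => MvPolynomial ι S.R) s) ▸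
        Submodule.smul_mono le_rfl le_top :
          (maximalIdeal S.R • ⊤ : Submodule S.R (MvPolynomial ι S.R)).map
            (LinearMap.single S.R (fun _ : σ => MvPolynomial ι S.R) s) ≤ maximalIdeal S.R • ⊤)
        (Submodule.mem_map_of_mem (S.mem_smul_top.1 (by
          rw [Pi.sub_apply, map_sub, sub_eq_zero]; exact congrFun h s)))
    have h0 := hW0 _ hm
    rw [hN2 _ (by rw [comb_sub, hR, hR', sub_self])] at h0
    have := hWadd (R - R') R'
    rw [sub_add_cancel, h0, zero_add] at this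
    exact this
  choose liftk hliftk using fun c : σ → MvPolynomial ι k =>
    (show ∃ R, S.e₁ ∘ R = c from by
      choose R hR using fun s => S.e₁_surj (c s)
      exact ⟨R, funext hR⟩)
  let O : (σ → MvPolynomial ι k) → B₀ := fun c => W (N (liftk c))
  have hO : ∀ R, comb F R = 0 → O (S.e₁ ∘ R) = W R := fun R hR => by
    refine hWcongr _ _ (hN1 _) hR ?_
    rw [hN3 _ (by rw [hliftk, ← S.e₁_comb hF, hR, map_zero]), hliftk]
  have hlr : ∀ c, comb (fRel P) c = 0 → ∃ R, comb F R = 0 ∧ S.e₁ ∘ R = c := fun c hc =>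
    ⟨N (liftk c), hN1 _, by rw [hN3 _ (by rw [hliftk, hc]), hliftk]⟩
  obtain ⟨Ψ, hΨ⟩ := exists_L2 P O
    (fun c d hc hd => by
      obtain ⟨R, hR, rfl⟩ := hlr c hc
      obtain ⟨R', hR', rfl⟩ := hlr d hd
      rw [show S.e₁ ∘ R + S.e₁ ∘ R' = S.e₁ ∘ (R + R') from funext fun s => (map_add S.e₁ _ _).symm,
        hO _ hR, hO _ hR', hO _ (by rw [comb_add, hR, hR', add_zero]), hWadd])
    (fun x c hc => by
      obtain ⟨R, hR, rfl⟩ := hlr c hc
      obtain ⟨x, rfl⟩ := S.e₁_surj x
      rw [show S.e₁ x • (S.e₁ ∘ R) = S.e₁ ∘ (x • R) from funext fun s => (map_mul S.e₁ _ _).symm,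
        hO _ hR, hO _ (by rw [comb_smul, hR, mul_zero]), hWsmul _ _ hR])
    (fun a b => by
      choose a' ha' using fun s => S.e₁_surj (a s)
      choose b' hb' using fun s => S.e₁_surj (b s)
      choose a'' ha'' using fun s => S.p₁_surj (a' s)
      choose b'' hb'' using fun s => S.p₁_surj (b' s)
      let R' := comb F₀ a'' • b'' - comb F₀ b'' • a''
      have hR'0 : comb F₀ R' = 0 := by rw [comb_sub, comb_smul, comb_smul]; ring
      have hR : comb F (S.p₁ ∘ R') = 0 := by rw [← S.p₁_comb₀ hF₀, hR'0, map_zero]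
      have hea : S.e₂ ∘ a'' = a := funext fun s => by show S.e₁ (S.p₁ (a'' s)) = a s; rw [ha'', ha']
      have heb : S.e₂ ∘ b'' = b := funext fun s => by show S.e₁ (S.p₁ (b'' s)) = b s; rw [hb'', hb']
      have e : S.e₁ ∘ (S.p₁ ∘ R') = comb (fRel P) a • b - comb (fRel P) b • a := funext fun s => by
        show S.e₂ (comb F₀ a'' * b'' s - comb F₀ b'' * a'' s) = comb (fRel P) a * b s - comb (fRel P) b * a s
        rw [map_sub, map_mul, map_mul, map_comb, map_comb, S.e₂_F₀ hF hF₀, hea, heb,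
          show S.e₂ (b'' s) = b s from congrFun heb s, show S.e₂ (a'' s) = a s from congrFun hea s]
      rw [← e, hO _ hR, hW]
      show π₀ P (S.lam ℓ (comb F₀ R')) = 0
      rw [hR'0, map_zero, map_zero])
  refine ⟨Ψ, fun R' hR hc => ?_⟩
  rw [hΨ]
  exact (hO _ hR).trans (hW R')

theorem good_unique {Ψ Ψ' : L2 P →ₗ[B₀] B₀} (h : S.Good F ℓ F₀ Ψ) (h' : S.Good F ℓ F₀ Ψ') : Ψ = Ψ' := by
  obtain ⟨N, hN1, -, hN3⟩ := S.exists_proj hF
  refine L2_ext P fun c hc => ?_
  choose R hR using fun s => S.e₁_surj (c s)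
  choose R' hR' using fun s => S.p₁_surj (N R s)
  have e1 : comb F (S.p₁ ∘ R') = 0 := by rw [show S.p₁ ∘ R' = N R from funext hR']; exact hN1 R
  have e2 : S.e₂ ∘ R' = c := by
    have h3 := hN3 R (by rw [show S.e₁ ∘ R = c from funext hR]; exact hc)
    funext s
    show S.e₁ (S.p₁ (R' s)) = c s
    rw [hR', show S.e₁ (N R s) = S.e₁ (R s) from congrFun h3 s, hR]
  subst e2
  exact (h R' e1 hc).trans (h' R' e1 hc).symm

/-- changing the lifts of the equations changes the obstruction by a coboundary -/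
theorem toT2_eq {F₀' : σ → MvPolynomial ι S.R'} (hF₀' : S.p₁ ∘ F₀' = F) {Ψ Ψ' : L2 P →ₗ[B₀] B₀}
    (h : S.Good F ℓ F₀ Ψ) (h' : S.Good F ℓ F₀' Ψ') : toT2 P B₀ Ψ = toT2 P B₀ Ψ' := by
  let g : L1 P →ₗ[B₀] B₀ := (L1basis P).constr B₀ fun s => π₀ P (S.lam ℓ (F₀' s - F₀ s))
  have hd : ∀ s, S.p₁ (F₀' s - F₀ s) = 0 := fun s => by
    rw [map_sub, show S.p₁ (F₀' s) = F s from congrFun hF₀' s, show S.p₁ (F₀ s) = F s from congrFun hF₀ s,
      sub_self]
  have h1 : S.Good F ℓ F₀' (Ψ + g ∘ₗ d2 P) := fun R' hR hc => by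
    rw [LinearMap.add_apply, h R' hR hc, LinearMap.comp_apply, apply_d2_rk]
    have e : comb F₀' R' = comb F₀ R' + ∑ s, R' s * (F₀' s - F₀ s) := by
      simp only [comb, mul_sub, Finset.sum_sub_distrib, add_sub_cancel]
    rw [e, map_add, map_add]
    refine congrArg₂ (· + ·) rfl ?_
    rw [map_sum, map_sum]
    refine Finset.sum_congr rfl fun s _ => ?_
    rw [S.lam_mul ℓ _ _ (hd s), map_mul, Module.Basis.constr_basis]
    rfl
  rw [← S.good_unique hF hF₀' h1 h', map_add,
    show toT2 P B₀ (g ∘ₗ d2 P) = 0 from (Submodule.Quotient.mk_eq_zero _).2 ⟨g, rfl⟩, add_zero]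

end

/-- the lift exists only if the obstruction vanishes -/
theorem exists_good_zero {L : S.Lft} (hFe : IsEqns P S F) :
    ∃ F₀ : σ → MvPolynomial ι S.R', S.p₁ ∘ F₀ = F ∧ ∀ ℓ, S.Good (P := P) F ℓ F₀ 0 := by
  obtain ⟨v, hv⟩ := exists_coord P L
  choose G hG using fun s => S.p₁_surj (F s)
  choose z hz using fun s => L.exists_κ (t := ev L v (G s)) (by rw [m_ev P hv, hG, (hFe s).1])
  choose c hc1 hc2 hc3 using fun s => exists_p₁ P L v hv (z s)
  have hp : S.p₁ ∘ (fun s => G s - c s) = F := funext fun s => by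
    show S.p₁ (G s - c s) = F s
    rw [map_sub, hc1, sub_zero, hG]
  refine ⟨fun s => G s - c s, hp, fun ℓ R' hR hc => ?_⟩
  rw [LinearMap.zero_apply]
  obtain ⟨w, hw1, hw2⟩ := S.exists_ev (P := P) hv
    (x := comb (fun s => G s - c s) R') (by rw [S.p₁_comb₀ hp, hR])
  have hw0 : w = 0 := L.κ_injective (by
    rw [← hw1, map_zero]
    simp only [comb, map_sum, map_mul]
    refine Finset.sum_eq_zero fun s _ => ?_
    rw [map_sub, hc3 s L v hv, hz, sub_self, mul_zero])
  rw [hw2, hw0, map_zero, map_zero]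

/-- if every obstruction is a coboundary there is a lift -/
theorem exists_lft (hFe : IsEqns P S F) (F₀ : σ → MvPolynomial ι S.R') (hF₀ : S.p₁ ∘ F₀ = F)
    [Module.Finite k S.J] (h : ∀ ℓ Ψ, S.Good F ℓ F₀ Ψ → toT2 P B₀ Ψ = 0) : Nonempty S.Lft := by
  classical
  let b := Module.finBasis k S.J
  have hex : ∀ l, ∃ g : L1 P →ₗ[B₀] B₀, S.Good F (b.coord l) F₀ (g ∘ₗ d2 P) := fun l => by
    obtain ⟨Ψ, hΨ⟩ := S.exists_good (ℓ := b.coord l) hFe hF₀
    obtain ⟨g, rfl⟩ := (Submodule.Quotient.mk_eq_zero _).1 (h _ _ hΨ)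
    exact ⟨g, hΨ⟩
  choose g hg using hex
  have hlift : ∀ l s, ∃ x : MvPolynomial ι S.R', π₀ P (S.e₂ x) = g l (L1basis P s) := fun l s => by
    obtain ⟨a, ha⟩ := π₀_surj P (g l (L1basis P s))
    obtain ⟨a, rfl⟩ := S.e₁_surj a
    obtain ⟨a, rfl⟩ := S.p₁_surj a
    exact ⟨a, ha⟩
  choose x hx using hlift
  let δ : σ → MvPolynomial ι S.R' := fun s => ∑ l, x l s * C ((b l : S.J) : S.R')
  have hδ : ∀ s, S.p₁ (δ s) = 0 := fun s => by simp [δ, map_sum, S.p₁_mul_J]
  let F' : σ → MvPolynomial ι S.R' := fun s => F₀ s - δ s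
  have hF' : S.p₁ ∘ F' = F := funext fun s => by
    show S.p₁ (F₀ s - δ s) = F s
    rw [map_sub, hδ, sub_zero]; exact congrFun hF₀ s
  have hb : ∀ l, ∀ H : σ → MvPolynomial ι S.R', comb F (S.p₁ ∘ H) = 0 →
      π₀ P (S.lam (b.coord l) (comb F' H)) = 0 := fun l H hH => by
    have hc := S.e₂_comb₀ hFe hF₀ hH
    have e : comb F' H = comb F₀ H - ∑ s, H s * δ s := by
      simp only [F', comb, mul_sub, Finset.sum_sub_distrib]
    rw [e, map_sub, map_sub, ← hg l H hH hc, LinearMap.comp_apply, apply_d2_rk, sub_eq_zero, map_sum, map_sum]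
    refine Finset.sum_congr rfl fun s _ => ?_
    rw [S.lam_mul _ _ _ (hδ s), map_mul, ← hx]
    congr 1
    rw [show S.lam (b.coord l) (δ s) = S.e₂ (x l s) from ?_]
    simp only [δ, map_sum, S.lam_mul_C]
    rw [Finset.sum_eq_single l]
    · simp
    · intro j _ hj
      simp [hj]
    · simp
  let I' : Ideal (MvPolynomial ι S.R') := Ideal.span (Set.range F')
  let T' := MvPolynomial ι S.R' ⧸ I'
  let φ' : S.R' →+* T' := (Ideal.Quotient.mk I').comp C
  let m : T' →+* S.T := Ideal.Quotient.lift I' ((S.ψT P).toRingHom.comp S.p₁) fun y hy => by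
    refine (Ideal.span_le.2 ?_ hy : y ∈ RingHom.ker ((S.ψT P).toRingHom.comp S.p₁))
    rintro _ ⟨s, rfl⟩
    show S.ψT P (S.p₁ (F' s)) = 0
    rw [show S.p₁ (F' s) = F s from congrFun hF' s, (hFe s).1]
  have hms : Function.Surjective m := fun t => by
    obtain ⟨y, rfl⟩ := S.ψT_surj P t
    obtain ⟨y, rfl⟩ := S.p₁_surj y
    exact ⟨Ideal.Quotient.mk I' y, rfl⟩
  have hmφ : ∀ a, m (φ' a) = algebraMap S.R S.T (S.p a) := fun a => by
    show S.ψT P (S.p₁ (C a)) = _
    simp [p₁, ψT]
  have hkm : ∀ y, m y = 0 → ∃ w, S.p₁ w = 0 ∧ y = Ideal.Quotient.mk I' w := fun y hy => by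
    obtain ⟨w, rfl⟩ := Ideal.Quotient.mk_surjective y
    obtain ⟨c, hc⟩ := S.exists_comb hFe (x := S.p₁ w) hy
    choose c' hc' using fun s => S.p₁_surj (c s)
    refine ⟨w - comb F' c', ?_, ?_⟩
    · rw [map_sub, S.p₁_comb₀ hF', show S.p₁ ∘ c' = c from funext hc', hc, sub_self]
    · rw [map_sub, show Ideal.Quotient.mk I' (comb F' c') = 0 from
        Ideal.Quotient.eq_zero_iff_mem.2 ((range_comb F' _).2 ⟨c', rfl⟩), sub_zero]
  have hε : ∀ (j : S.J) (z : MvPolynomial ι S.R'), S.e₂ z = 0 → C (j : S.R') * z = 0 := fun j z hz => by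
    ext d
    rw [coeff_C_mul, coeff_zero, mul_comm]
    refine S.mul_J ?_ j.2
    have h := congrArg (coeff d) hz
    simpa [e₂, e₁, p₁, coeff_map] using h
  have hCj : ∀ (j : S.J) y, S.q (m y) = 0 → φ' j * y = 0 := fun j y hy => by
    obtain ⟨w, rfl⟩ := Ideal.Quotient.mk_surjective y
    have h1 : π₀ P (S.e₂ w) = 0 := (S.q_ψT P _).symm.trans hy
    rw [← RingHom.mem_ker, ker_π₀, range_comb] at h1
    obtain ⟨c, hc⟩ := h1
    choose c₁ hc₁ using fun s => S.e₁_surj (c s)
    choose c₂ hc₂ using fun s => S.p₁_surj (c₁ s)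
    have h2 : S.e₂ (w - comb F' c₂) = 0 := by
      rw [map_sub, map_comb, S.e₂_F₀ hFe hF', show S.e₂ ∘ c₂ = c from funext fun s => by
        show S.e₁ (S.p₁ (c₂ s)) = c s
        rw [hc₂, hc₁], hc, sub_self]
    have h3 := hε j _ h2
    show Ideal.Quotient.mk I' (C (j : S.R')) * Ideal.Quotient.mk I' w = 0
    rw [← map_mul, Ideal.Quotient.eq_zero_iff_mem, ← sub_add_cancel w (comb F' c₂), mul_add, h3, zero_add]
    exact I'.mul_mem_left _ ((range_comb F' _).2 ⟨c₂, rfl⟩)
  have hflat : φ'.Flat := by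
    haveI : Module.Free S.R S.T := ArtFlat.free_coker (ArtFlat.isNilpotent_maximalIdeal (A := S.R))
      (0 : PUnit.{u+1} →ₗ[S.R] S.T) LinearMap.id Function.surjective_id (fun y => by simp [eq_comm])
      (fun a b _ => Subsingleton.elim a b)
    let bb := Module.Free.chooseBasis S.R S.T
    choose y hy using fun i => S.ψT_surj P (bb i)
    choose y' hy' using fun i => S.p₁_surj (y i)
    let Λ := Finsupp.linearCombination S.R' (fun i => Ideal.Quotient.mk I' (y' i))
    let ΛX := Finsupp.linearCombination S.R' y'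
    have hΛ : ∀ c, Λ c = Ideal.Quotient.mk I' (ΛX c) := fun c => by
      rw [Finsupp.linearCombination_apply, Finsupp.linearCombination_apply, map_finsuppSum]
      refine Finsupp.sum_congr fun i _ => ?_
      rw [← Ideal.Quotient.mkₐ_eq_mk S.R', map_smul]
    have hmΛ : ∀ c, m (Λ c) = Finsupp.linearCombination S.R bb (c.mapRange S.p (map_zero S.p)) := fun c => by
      rw [Finsupp.linearCombination_apply, map_finsuppSum, Finsupp.linearCombination_apply,
        Finsupp.sum_mapRange_index (fun _ => by simp)]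
      refine Finsupp.sum_congr fun i _ => ?_
      rw [← Ideal.Quotient.mkₐ_eq_mk S.R', ← map_smul, Algebra.smul_def (c i), map_mul, map_mul, Algebra.smul_def]
      show m (φ' (c i)) * m (Ideal.Quotient.mk I' (y' i)) = _
      rw [hmφ, show m (Ideal.Quotient.mk I' (y' i)) = bb i from ?_]
      show S.ψT P (S.p₁ (y' i)) = bb i
      rw [hy', hy]
    have hex : ∀ t : S.T, ∃ c, m (Λ c) = t := fun t => by
      obtain ⟨c, hc⟩ := Finsupp.mapRange_surjective S.p (map_zero S.p) S.p_surj (bb.repr t)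
      exact ⟨c, by rw [hmΛ, hc, bb.linearCombination_repr]⟩
    suffices H : Function.Bijective Λ by
      haveI : Module.Free S.R' T' := Module.Free.of_equiv (LinearEquiv.ofBijective Λ H)
      show (algebraMap S.R' T').Flat
      exact RingHom.flat_algebraMap_iff.2 inferInstance
    refine ⟨?_, fun t => ?_⟩
    · rw [injective_iff_map_eq_zero]
      intro c hc
      have h1 : c.mapRange S.p (map_zero S.p) = 0 := by
        refine bb.repr.symm.injective ?_
        rw [map_zero, bb.repr_symm_apply, ← hmΛ, hc, map_zero]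
      have h2 : ∀ i, c i ∈ S.J := fun i => by
        have := DFunLike.congr_fun h1 i
        simpa using this
      rw [hΛ, Ideal.Quotient.eq_zero_iff_mem, range_comb] at hc
      obtain ⟨H, hH⟩ := hc
      have hrel : comb F (S.p₁ ∘ H) = 0 := by
        rw [← S.p₁_comb₀ hF', hH, Finsupp.linearCombination_apply, map_finsuppSum]
        refine Finset.sum_eq_zero fun i _ => ?_
        show S.p₁ (c i • y' i) = 0
        rw [Algebra.smul_def, map_mul, show S.p₁ (algebraMap S.R' _ (c i)) = 0 by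
          simp [p₁, show S.p (c i) = 0 from h2 i], zero_mul]
      have h4 : ∀ t ∈ maximalIdeal S.R • (⊤ : Submodule S.R S.T), ∀ i, bb.repr t i ∈ maximalIdeal S.R := by
        intro t ht i
        induction ht using Submodule.smul_induction_on' with
        | smul a ha z _ => rw [map_smul, Finsupp.smul_apply, smul_eq_mul]; exact Ideal.mul_mem_right _ _ ha
        | add z _ z' _ hz hz' => rw [map_add, Finsupp.add_apply]; exact add_mem hz hz'
      have h5 : ∀ l i, b.coord l ⟨c i, h2 i⟩ = 0 := fun l i => by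
        have h6 := hb l H hrel
        rw [hH, Finsupp.linearCombination_apply, Finsupp.sum, map_sum, map_sum] at h6
        let a : _ →₀ S.R := Finsupp.onFinset c.support
          (fun i => S.p (algebraMap k S.R' (b.coord l ⟨c i, h2 i⟩))) fun i hi => by
            rw [Finsupp.mem_support_iff]
            intro h0
            apply hi
            rw [show (⟨c i, h2 i⟩ : S.J) = 0 from Subtype.ext h0, map_zero, map_zero, map_zero]
        have h7 : S.q (Finsupp.linearCombination S.R bb a) = 0 := by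
          rw [Finsupp.linearCombination_apply, Finsupp.sum_of_support_subset a
            (Finsupp.support_onFinset_subset : a.support ⊆ c.support) (fun i r => r • bb i) (fun i _ => zero_smul _ _), map_sum, ← h6]
          refine Finset.sum_congr rfl fun i _ => ?_
          rw [Algebra.smul_def (c i), ← mul_comm (y' i),
            show S.lam (b.coord l) (y' i * algebraMap S.R' _ (c i)) = C (b.coord l ⟨c i, h2 i⟩) * S.e₂ (y' i) from
              S.lam_mul_C _ _ ⟨c i, h2 i⟩, map_mul, Finsupp.onFinset_apply, Algebra.smul_def, map_mul, S.q_alg,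
            S.e_alg, ← hy, ← hy', S.q_ψT]
          simp
          rfl
        rw [← RingHom.mem_ker, S.q_ker, ← Submodule.restrictScalars_mem S.R, ← Ideal.smul_top_eq_map] at h7
        have h8 := h4 _ h7 i
        rw [bb.repr_linearCombination, Finsupp.onFinset_apply, ← S.e_ker, RingHom.mem_ker, S.e_alg] at h8
        exact h8
      refine Finsupp.ext fun i => ?_
      have : (⟨c i, h2 i⟩ : S.J) = 0 := b.ext_elem fun l => by
        rw [map_zero, Finsupp.zero_apply]; exact h5 l i
      exact congrArg Subtype.val this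
    · obtain ⟨c, hc⟩ := hex (m t)
      obtain ⟨w, hw, hwt⟩ := hkm (t - Λ c) (by rw [map_sub, hc, sub_self])
      have key : ∃ d, Ideal.Quotient.mk I' w = Λ d := by
        refine S.ker_induction (motive := fun w => ∃ d, Ideal.Quotient.mk I' w = Λ d) (fun a j => ?_) ⟨0, by simp⟩
          (fun x y ⟨d, hd⟩ ⟨d', hd'⟩ => ⟨d + d', by rw [map_add, map_add, hd, hd']⟩) hw
        obtain ⟨d, hd⟩ := hex (m (Ideal.Quotient.mk I' a))
        refine ⟨(j : S.R') • d, ?_⟩
        rw [map_smul, map_mul, mul_comm, ← sub_eq_zero]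
        rw [show (j : S.R') • Λ d = φ' j * Λ d from by
          rw [hΛ, ← Ideal.Quotient.mkₐ_eq_mk S.R', ← map_smul, Algebra.smul_def (j : S.R') (ΛX d), map_mul]
          rfl]
        show φ' j * Ideal.Quotient.mk I' a - φ' j * Λ d = 0
        rw [← mul_sub]
        exact hCj j _ (by rw [map_sub, hd, sub_self, map_zero])
      obtain ⟨d, hd⟩ := key
      exact ⟨c + d, by rw [map_add, ← hd, ← hwt, add_sub_cancel]⟩
  refine ⟨{ T' := T', φ := φ', flat := hflat, m := m, m_surj := hms, m_φ := hmφ, m_ker := ?_ }⟩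
  refine le_antisymm (fun y hy => ?_) (Ideal.map_le_iff_le_comap.2 fun j hj => ?_)
  · obtain ⟨w, hw, rfl⟩ := hkm y hy
    refine S.ker_induction (motive := fun w => Ideal.Quotient.mk I' w ∈ S.J.map φ') (fun a j => ?_)
      (by rw [map_zero]; exact zero_mem _)
      (fun x y hx hy => by rw [map_add]; exact add_mem hx hy) hw
    rw [map_mul]
    exact Ideal.mul_mem_left _ _ (Ideal.mem_map_of_mem φ' j.2)
  · rw [Ideal.mem_comap, RingHom.mem_ker, hmφ, show S.p j = 0 from hj, map_zero]

end Small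

end Groth.Agent.RigidDef
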