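import Groth.Agent.DefFun.Model
import Groth.Agent.CotT.ExalT1

/-!
Lifts of a flat algebra along a small extension of the Artinian base are a torsor under `T¹`.
-/

set_option autoImplicit false
set_option linter.style.haveILetI false
universe u
open TensorProduct MvPolynomial IsLocalRing CotT

namespace Groth.Agent.RigidDef

/-- The input: a small extension of the base and a flat algebra over the quotient. -/
structure Small (k B₀ : Type u) [Field k] [CommRing B₀] [Algebra k B₀] : Type (u + 1) where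
  {R' : Type u}
  {R : Type u}
  [ringC' : CommRing R']
  [localC' : IsLocalRing R']
  [artC' : IsArtinianRing R']
  [algC' : Algebra k R']
  [ringC : CommRing R]
  [localC : IsLocalRing R]
  [artC : IsArtinianRing R]
  p : R' →+* R
  p_surj : Function.Surjective p
  e : R →+* k
  e_ker : RingHom.ker e = maximalIdeal R
  e_alg : ∀ c : k, e (p (algebraMap k R' c)) = c
  small : maximalIdeal R' * RingHom.ker p = ⊥
  {T : Type u}
  [ringT : CommRing T]
  [algT : Algebra R T]
  [flatT : Module.Flat R T]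
  q : T →+* B₀
  q_surj : Function.Surjective q
  q_ker : RingHom.ker q = (maximalIdeal R).map (algebraMap R T)
  q_alg : ∀ a, q (algebraMap R T a) = algebraMap k B₀ (e a)

namespace Small

attribute [instance] ringC' localC' artC' algC' ringC localC artC ringT algT flatT

variable {k B₀ : Type u} [Field k] [CommRing B₀] [Algebra k B₀] (S : Small k B₀)

abbrev J : Ideal S.R' := RingHom.ker S.p

/-- the coefficient module -/
abbrev M : Type u := B₀ ⊗[k] ↥S.J

abbrev e' : S.R' →+* k := S.e.comp S.p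

theorem e_surj : Function.Surjective S.e := fun c => ⟨_, S.e_alg c⟩

theorem e'_surj : Function.Surjective S.e' := fun c => ⟨_, S.e_alg c⟩

theorem e'_ker : RingHom.ker S.e' = maximalIdeal S.R' := by
  haveI : (RingHom.ker S.e').IsMaximal := RingHom.ker_isMaximal_of_surjective _ S.e'_surj
  exact IsLocalRing.eq_maximalIdeal inferInstance

theorem mul_J {a j : S.R'} (ha : S.e' a = 0) (hj : j ∈ S.J) : a * j = 0 := by
  have h : a * j ∈ maximalIdeal S.R' * S.J := Ideal.mul_mem_mul (S.e'_ker ▸ ha) hj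
  rwa [show maximalIdeal S.R' * S.J = ⊥ from S.small, Ideal.mem_bot] at h

theorem coe_smul_eq (c : S.R') (j : S.J) : ((S.e' c • j : S.J) : S.R') = c * j := by
  rw [Submodule.coe_smul_of_tower, Algebra.smul_def, ← sub_eq_zero, ← sub_mul]
  exact S.mul_J (by rw [map_sub, RingHom.comp_apply, S.e_alg]; exact sub_self _) j.2

/-- a lift -/
structure Lft : Type (u + 1) where
  {T' : Type u}
  [ringT' : CommRing T']
  φ : S.R' →+* T'
  flat : φ.Flat
  m : T' →+* S.T
  m_surj : Function.Surjective m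
  m_φ : ∀ a, m (φ a) = algebraMap S.R S.T (S.p a)
  m_ker : RingHom.ker m = S.J.map φ

attribute [instance] Lft.ringT'

variable {S}

abbrev Lft.qm (L : S.Lft) : L.T' →+* B₀ := S.q.comp L.m

theorem Lft.qm_φ (L : S.Lft) (a : S.R') : L.qm (L.φ a) = algebraMap k B₀ (S.e' a) := by
  rw [RingHom.comp_apply, L.m_φ, S.q_alg]; rfl

theorem Lft.qm_ker (L : S.Lft) : RingHom.ker L.qm = (maximalIdeal S.R').map L.φ := by
  refine le_antisymm (fun y hy => ?_) ?_
  · have h1 : L.m y ∈ (maximalIdeal S.R).map (algebraMap S.R S.T) := S.q_ker ▸ hy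
    have h2 : (maximalIdeal S.R).map (algebraMap S.R S.T) = ((maximalIdeal S.R').map L.φ).map L.m := by
      rw [Ideal.map_map, show L.m.comp L.φ = (algebraMap S.R S.T).comp S.p from RingHom.ext L.m_φ,
        ← Ideal.map_map, ← S.e'_ker, ← S.e_ker, ← RingHom.comap_ker, Ideal.map_comap_of_surjective _ S.p_surj]
    rw [h2, Ideal.mem_map_iff_of_surjective _ L.m_surj] at h1
    obtain ⟨z, hz, hzy⟩ := h1
    have h3 : y - z ∈ S.J.map L.φ := by
      rw [← L.m_ker, RingHom.mem_ker, map_sub, hzy, sub_self]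
    have hle : S.J ≤ maximalIdeal S.R' := fun j hj => by
      rw [← S.e'_ker, RingHom.mem_ker, RingHom.comp_apply, show S.p j = 0 from hj, map_zero]
    have := add_mem (Ideal.map_mono hle h3) hz
    rwa [sub_add_cancel] at this
  · rw [Ideal.map_le_iff_le_comap]
    intro a ha
    rw [← S.e'_ker, RingHom.mem_ker] at ha
    rw [Ideal.mem_comap, RingHom.mem_ker, L.qm_φ, ha, map_zero]

theorem Lft.qm_surj (L : S.Lft) : Function.Surjective L.qm := S.q_surj.comp L.m_surj

theorem Lft.J_mul (L : S.Lft) {j : S.R'} (hj : j ∈ S.J) {x : L.T'} (hx : L.qm x = 0) : L.φ j * x = 0 := by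
  have h1 : x ∈ RingHom.ker L.qm := hx
  rw [L.qm_ker] at h1
  have h2 := Ideal.mul_mem_mul (Ideal.mem_map_of_mem L.φ hj) h1
  rwa [← Ideal.map_mul, mul_comm S.J, show maximalIdeal S.R' * S.J = ⊥ from S.small, Ideal.map_bot,
    Ideal.mem_bot] at h2

theorem Lft.J_mul_congr (L : S.Lft) {j : S.R'} (hj : j ∈ S.J) {x y : L.T'} (h : L.qm x = L.qm y) :
    L.φ j * x = L.φ j * y := by
  rw [← sub_eq_zero, ← mul_sub]
  exact L.J_mul hj (by rw [map_sub, h, sub_self])

/-- a section of `qm` -/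
noncomputable def Lft.sec (L : S.Lft) (b : B₀) : L.T' := (L.qm_surj b).choose

theorem Lft.qm_sec (L : S.Lft) (b : B₀) : L.qm (L.sec b) = b := (L.qm_surj b).choose_spec

/-- `b ⊗ j ↦ j b̃` -/
noncomputable def Lft.κ (L : S.Lft) : S.M →+ L.T' :=
  TensorProduct.liftAddHom
    { toFun := fun b =>
        { toFun := fun j => L.φ j * L.sec b
          map_zero' := by rw [ZeroMemClass.coe_zero, map_zero, zero_mul]
          map_add' := fun i j => by rw [Submodule.coe_add, map_add, add_mul] }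
      map_zero' := AddMonoidHom.ext fun j => L.J_mul j.2 (L.qm_sec 0)
      map_add' := fun b b' => AddMonoidHom.ext fun j => by
        show L.φ j * L.sec (b + b') = L.φ j * L.sec b + L.φ j * L.sec b'
        rw [← mul_add]
        exact L.J_mul_congr j.2 (by rw [map_add, L.qm_sec, L.qm_sec, L.qm_sec]) }
    (fun c b j => by
      show L.φ j * L.sec (c • b) = L.φ ((c • j : S.J) : S.R') * L.sec b
      rw [Submodule.coe_smul_of_tower, Algebra.smul_def c (j : S.R'), mul_comm (algebraMap k S.R' c), map_mul,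
        mul_assoc]
      refine L.J_mul_congr j.2 ?_
      rw [map_mul, L.qm_φ, show S.e' (algebraMap k S.R' c) = c from S.e_alg c, L.qm_sec, L.qm_sec,
        Algebra.smul_def])

theorem Lft.κ_tmul (L : S.Lft) (b : B₀) (j : S.J) {t : L.T'} (ht : L.qm t = b) :
    L.κ (b ⊗ₜ j) = L.φ j * t :=
  L.J_mul_congr j.2 (by rw [L.qm_sec, ht])

theorem Lft.mul_κ (L : S.Lft) (t : L.T') (z : S.M) : t * L.κ z = L.κ (L.qm t • z) := by
  induction z using TensorProduct.induction_on with
  | zero => simp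
  | tmul b j =>
    rw [TensorProduct.smul_tmul', L.κ_tmul b j (L.qm_sec b),
      L.κ_tmul (L.qm t • b) j (t := t * L.sec b) (by rw [map_mul, L.qm_sec, smul_eq_mul]), mul_left_comm]
  | add x y hx hy => rw [map_add, mul_add, hx, hy, smul_add, map_add]

theorem Lft.φ_κ (L : S.Lft) (a : S.R') (z : S.M) : L.φ a * L.κ z = L.κ (algebraMap k B₀ (S.e' a) • z) := by
  rw [L.mul_κ, L.qm_φ]

theorem Lft.m_κ (L : S.Lft) (z : S.M) : L.m (L.κ z) = 0 := by
  induction z using TensorProduct.induction_on with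
  | zero => simp
  | tmul b j => rw [L.κ_tmul b j (L.qm_sec b), map_mul, L.m_φ, show S.p j = 0 from j.2, map_zero, zero_mul]
  | add x y hx hy => rw [map_add, map_add, hx, hy, add_zero]

theorem Lft.qm_κ (L : S.Lft) (z : S.M) : L.qm (L.κ z) = 0 := by
  rw [RingHom.comp_apply, L.m_κ, map_zero]

theorem Lft.κ_mul_κ (L : S.Lft) (z w : S.M) : L.κ z * L.κ w = 0 := by
  rw [L.mul_κ, L.qm_κ, zero_smul, map_zero]

theorem Lft.exists_κ (L : S.Lft) {t : L.T'} (ht : L.m t = 0) : ∃ z, L.κ z = t := by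
  have h : t ∈ S.J.map L.φ := L.m_ker ▸ ht
  induction h using Submodule.span_induction with
  | mem x hx =>
    obtain ⟨j, hj, rfl⟩ := hx
    exact ⟨1 ⊗ₜ ⟨j, hj⟩, (L.κ_tmul 1 ⟨j, hj⟩ (map_one _)).trans (mul_one _)⟩
  | zero => exact ⟨0, map_zero _⟩
  | add x y _ _ hx hy =>
    obtain ⟨z, rfl⟩ := hx (RingHom.mem_ker.1 (L.m_ker.ge ‹_›))
    obtain ⟨w, rfl⟩ := hy (RingHom.mem_ker.1 (L.m_ker.ge ‹_›))
    exact ⟨z + w, map_add _ _ _⟩
  | smul a x _ hx =>
    obtain ⟨z, rfl⟩ := hx (RingHom.mem_ker.1 (L.m_ker.ge ‹_›))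
    exact ⟨L.qm a • z, (L.mul_κ a z).symm⟩

theorem Lft.κ_injective (L : S.Lft) : Function.Injective L.κ := by
  letI := L.φ.toAlgebra
  haveI : Module.Flat S.R' L.T' := L.flat
  let g : (↥S.J ⊗[S.R'] L.T') →+ S.M := TensorProduct.liftAddHom
    { toFun := fun j =>
        { toFun := fun t => L.qm t ⊗ₜ[k] j
          map_zero' := by rw [map_zero, zero_tmul]
          map_add' := fun s t => by rw [map_add, add_tmul] }
      map_zero' := AddMonoidHom.ext fun t => by
        show L.qm t ⊗ₜ[k] (0 : S.J) = 0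
        rw [tmul_zero]
      map_add' := fun i j => AddMonoidHom.ext fun t => by
        show L.qm t ⊗ₜ[k] (i + j) = L.qm t ⊗ₜ[k] i + L.qm t ⊗ₜ[k] j
        rw [tmul_add] }
    (fun c j t => by
      show L.qm t ⊗ₜ[k] (c • j) = L.qm (L.φ c * t) ⊗ₜ[k] j
      rw [map_mul, L.qm_φ, ← Algebra.smul_def, smul_tmul]
      congr 1
      exact Subtype.ext (S.coe_smul_eq c j).symm)
  let ι : (↥S.J ⊗[S.R'] L.T') →ₗ[S.R'] L.T' :=
    (TensorProduct.lid S.R' L.T').toLinearMap ∘ₗ LinearMap.rTensor L.T' (Submodule.subtype S.J)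
  have hι : Function.Injective ι := (TensorProduct.lid S.R' L.T').injective.comp
    (Module.Flat.rTensor_preserves_injective_linearMap _ Subtype.val_injective)
  have hg : ∀ w, L.κ (g w) = ι w := fun w => by
    induction w using TensorProduct.induction_on with
    | zero => rw [map_zero, map_zero, map_zero]
    | tmul j t => exact L.κ_tmul (L.qm t) j rfl
    | add x y hx hy => rw [map_add, map_add, map_add, hx, hy]
  have hgs : Function.Surjective g := fun z => by
    induction z using TensorProduct.induction_on with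
    | zero => exact ⟨0, map_zero _⟩
    | tmul b j => exact ⟨j ⊗ₜ L.sec b, by show L.qm (L.sec b) ⊗ₜ[k] j = b ⊗ₜ j; rw [L.qm_sec]⟩
    | add x y hx hy =>
      obtain ⟨a, rfl⟩ := hx
      obtain ⟨b, rfl⟩ := hy
      exact ⟨a + b, map_add _ _ _⟩
  rw [injective_iff_map_eq_zero]
  intro z hz
  obtain ⟨w, rfl⟩ := hgs z
  rw [hg] at hz
  rw [hι (hz.trans (map_zero _).symm), map_zero]

/-- isomorphic lifts -/
def Lft.Rel (L L' : S.Lft) : Prop :=
  ∃ g : L.T' →+* L'.T', (∀ a, g (L.φ a) = L'.φ a) ∧ ∀ x, L'.m (g x) = L.m x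

theorem Lft.κ_natural {L L' : S.Lft} (g : L.T' →+* L'.T') (hφ : ∀ a, g (L.φ a) = L'.φ a)
    (hm : ∀ x, L'.m (g x) = L.m x) (z : S.M) : g (L.κ z) = L'.κ z := by
  induction z using TensorProduct.induction_on with
  | zero => simp
  | tmul b j =>
    rw [L.κ_tmul b j (L.qm_sec b), map_mul, hφ,
      L'.κ_tmul b j (t := g (L.sec b)) (by rw [RingHom.comp_apply, hm]; exact L.qm_sec b)]
  | add x y hx hy => rw [map_add, map_add, map_add, hx, hy]

theorem Lft.Rel.bijective {L L' : S.Lft} (g : L.T' →+* L'.T') (hφ : ∀ a, g (L.φ a) = L'.φ a)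
    (hm : ∀ x, L'.m (g x) = L.m x) : Function.Bijective g := by
  letI := L.φ.toAlgebra
  letI := L'.φ.toAlgebra
  haveI : Module.Flat S.R' L'.T' := L'.flat
  exact DefFun.bijective_of_fibre (ArtFlat.isNilpotent_maximalIdeal (A := S.R'))
    ({ g with commutes' := hφ } : L.T' →ₐ[S.R'] L'.T') L.qm L'.qm L.qm_surj
    (fun t => congrArg S.q (hm t)) L.qm_ker.le L'.qm_ker

section Classify

variable {ι σ : Type u} (P : Algebra.Presentation k B₀ ι σ)

/-- the structure map of the presentation -/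
noncomputable abbrev π₀ : MvPolynomial ι k →+* B₀ := (aeval P.val).toRingHom

noncomputable def e₁ (S : Small k B₀) : MvPolynomial ι S.R →+* MvPolynomial ι k := MvPolynomial.map S.e
noncomputable def p₁ (S : Small k B₀) : MvPolynomial ι S.R' →+* MvPolynomial ι S.R := MvPolynomial.map S.p
noncomputable def e₂ (S : Small k B₀) : MvPolynomial ι S.R' →+* MvPolynomial ι k := S.e₁.comp S.p₁

theorem p₁_surj (S : Small k B₀) : Function.Surjective (S.p₁ (ι := ι)) := MvPolynomial.map_surjective _ S.p_surj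
theorem e₁_surj (S : Small k B₀) : Function.Surjective (S.e₁ (ι := ι)) := MvPolynomial.map_surjective _ S.e_surj

variable (S)

/-- coordinates on the deformation -/
noncomputable def w (i : ι) : S.T := (S.q_surj (P.val i)).choose

theorem q_w (i : ι) : S.q (S.w P i) = P.val i := (S.q_surj (P.val i)).choose_spec

noncomputable def ψT : MvPolynomial ι S.R →ₐ[S.R] S.T := aeval (S.w P)

theorem q_ψT (x : MvPolynomial ι S.R) : S.q (S.ψT P x) = π₀ P (S.e₁ x) := by
  induction x using MvPolynomial.induction_on with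
  | C a => simp [ψT, e₁, S.q_alg]
  | add x y hx hy => simp [map_add, hx, hy]
  | mul_X x i hx =>
    rw [map_mul, map_mul, hx, map_mul, map_mul]
    simp [ψT, e₁, S.q_w]

theorem π₀_surj : Function.Surjective (π₀ P) := fun b => ⟨P.σ b, P.aeval_val_σ b⟩

theorem ψT_surj : Function.Surjective (S.ψT P) := by
  have h := ArtFlat.eq_top_of_le_sup_smul (ArtFlat.isNilpotent_maximalIdeal (A := S.R))
    (LinearMap.range (S.ψT P).toLinearMap) fun t _ => by
    obtain ⟨g, hg⟩ := π₀_surj P (S.q t)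
    obtain ⟨x, rfl⟩ := S.e₁_surj g
    refine Submodule.mem_sup.2 ⟨S.ψT P x, ⟨x, rfl⟩, t - S.ψT P x, ?_, add_sub_cancel _ _⟩
    rw [Ideal.smul_top_eq_map, Submodule.restrictScalars_mem, ← S.q_ker, RingHom.mem_ker, map_sub, S.q_ψT, hg,
      sub_self]
  exact fun t => h.ge (Submodule.mem_top (x := t))

theorem exists_section_ψT : ∃ s : S.T →ₗ[S.R] MvPolynomial ι S.R, ∀ t, S.ψT P (s t) = t := by
  haveI : Module.Free S.R S.T := ArtFlat.free_coker (ArtFlat.isNilpotent_maximalIdeal (A := S.R))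
    (0 : PUnit.{u+1} →ₗ[S.R] S.T) LinearMap.id Function.surjective_id (fun y => by simp [eq_comm])
    (fun a b _ => Subsingleton.elim a b)
  obtain ⟨s, hs⟩ := Module.projective_lifting_property (S.ψT P).toLinearMap LinearMap.id (S.ψT_surj P)
  exact ⟨s, fun t => LinearMap.congr_fun hs t⟩

noncomputable def sT : S.T →ₗ[S.R] MvPolynomial ι S.R := (S.exists_section_ψT P).choose

theorem ψT_sT (t : S.T) : S.ψT P (S.sT P t) = t := (S.exists_section_ψT P).choose_spec t

/-- the projection onto the kernel -/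
noncomputable def πI : MvPolynomial ι S.R →ₗ[S.R] MvPolynomial ι S.R :=
  LinearMap.id - S.sT P ∘ₗ (S.ψT P).toLinearMap

theorem ψT_πI (x : MvPolynomial ι S.R) : S.ψT P (S.πI P x) = 0 := by
  show S.ψT P (x - S.sT P (S.ψT P x)) = 0
  rw [map_sub, S.ψT_sT, sub_self]

theorem πI_eq {x : MvPolynomial ι S.R} (hx : S.ψT P x = 0) : S.πI P x = x := by
  show x - S.sT P (S.ψT P x) = x
  rw [hx, map_zero, sub_zero]

theorem mem_smul_top {x : MvPolynomial ι S.R} :
    e₁ S x = 0 ↔ x ∈ maximalIdeal S.R • (⊤ : Submodule S.R (MvPolynomial ι S.R)) := by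
  rw [Ideal.smul_top_eq_map, Submodule.restrictScalars_mem, ← S.e_ker, ← RingHom.mem_ker, e₁, MvPolynomial.ker_map]
  rfl

theorem e₁_πI_congr {x : MvPolynomial ι S.R} (h : S.e₁ x = 0) : S.e₁ (S.πI P x) = 0 := by
  rw [S.mem_smul_top] at h ⊢
  exact (Submodule.map_smul'' (maximalIdeal S.R) ⊤ (S.πI P) ▸ Submodule.smul_mono le_rfl le_top :
    (maximalIdeal S.R • ⊤ : Submodule S.R _).map (S.πI P) ≤ maximalIdeal S.R • ⊤) (Submodule.mem_map_of_mem h)

variable {S}

/-- coordinates on a lift -/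
def IsCoord (L : S.Lft) (v : ι → L.T') : Prop := ∀ i, L.m (v i) = S.w P i

theorem exists_coord (L : S.Lft) : ∃ v, IsCoord P L v := by
  choose v hv using fun i => L.m_surj (S.w P i)
  exact ⟨v, hv⟩

noncomputable abbrev ev (L : S.Lft) (v : ι → L.T') : MvPolynomial ι S.R' →+* L.T' := eval₂Hom L.φ v

theorem m_ev {L : S.Lft} {v : ι → L.T'} (hv : IsCoord P L v) (x : MvPolynomial ι S.R') :
    L.m (ev L v x) = S.ψT P (S.p₁ x) := by
  induction x using MvPolynomial.induction_on with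
  | C a => simp [ψT, p₁, L.m_φ]
  | add x y hx hy => simp only [map_add, hx, hy]
  | mul_X x i hx =>
    rw [map_mul, map_mul, hx, map_mul, map_mul]
    simp [ψT, p₁, hv i]

theorem qm_ev {L : S.Lft} {v : ι → L.T'} (hv : IsCoord P L v) (x : MvPolynomial ι S.R') :
    L.qm (ev L v x) = π₀ P (S.e₂ x) := by
  rw [RingHom.comp_apply, m_ev P hv, S.q_ψT]; rfl

/-- every lift is generated by its coordinates -/
theorem ev_surj {L : S.Lft} {v : ι → L.T'} (hv : IsCoord P L v) : Function.Surjective (ev L v) := by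
  intro t
  obtain ⟨y, hy⟩ := S.ψT_surj P (L.m t)
  obtain ⟨x, rfl⟩ := S.p₁_surj y
  obtain ⟨z, hz⟩ := L.exists_κ (t := t - ev L v x) (by rw [map_sub, m_ev P hv, hy, sub_self])
  have key : ∀ z, ∃ c, ev L v c = L.κ z := fun z => by
    induction z using TensorProduct.induction_on with
    | zero => exact ⟨0, by simp⟩
    | tmul b j =>
      obtain ⟨g, hg⟩ := π₀_surj P b
      obtain ⟨g, rfl⟩ := S.e₁_surj g
      obtain ⟨g, rfl⟩ := S.p₁_surj g
      exact ⟨C (j : S.R') * g, by
        rw [map_mul, L.κ_tmul b j (t := ev L v g) (by rw [qm_ev P hv]; exact hg)]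
        simp⟩
    | add a b ha hb =>
      obtain ⟨c, hc⟩ := ha
      obtain ⟨d, hd⟩ := hb
      exact ⟨c + d, by rw [map_add, map_add, hc, hd]⟩
  obtain ⟨c, hc⟩ := key z
  exact ⟨x + c, by rw [map_add, hc, hz, add_sub_cancel]⟩

/-- elements killed by `p` act through the coefficient module, uniformly in the lift -/
theorem exists_of_p₁ (c : MvPolynomial ι S.R') (hc : S.p₁ c = 0) :
    ∃ z, ∀ (L : S.Lft) (v : ι → L.T'), IsCoord P L v → ev L v c = L.κ z := by
  have h : c ∈ S.J.map (C (R := S.R') (σ := ι)) := by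
    rw [show S.J.map (C (R := S.R') (σ := ι)) = RingHom.ker (MvPolynomial.map S.p) from (MvPolynomial.ker_map _).symm]
    exact hc
  induction h using Submodule.span_induction with
  | mem x hx =>
    obtain ⟨j, hj, rfl⟩ := hx
    refine ⟨1 ⊗ₜ ⟨j, hj⟩, fun L v hv => ?_⟩
    rw [L.κ_tmul 1 ⟨j, hj⟩ (map_one _), mul_one]
    simp
  | zero => exact ⟨0, fun L v hv => by simp⟩
  | add x y hx' hy' hx hy =>
    have hle : ∀ x ∈ S.J.map (C (R := S.R') (σ := ι)), S.p₁ x = 0 := fun x hx => by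
      rw [show S.J.map (C (R := S.R') (σ := ι)) = RingHom.ker (MvPolynomial.map S.p) from (MvPolynomial.ker_map _).symm] at hx
      exact hx
    obtain ⟨z, hz⟩ := hx (hle _ hx')
    obtain ⟨z', hz'⟩ := hy (hle _ hy')
    exact ⟨z + z', fun L v hv => by rw [map_add, map_add, hz L v hv, hz' L v hv]⟩
  | smul a x hx' hx =>
    have hle : ∀ x ∈ S.J.map (C (R := S.R') (σ := ι)), S.p₁ x = 0 := fun x hx => by
      rw [show S.J.map (C (R := S.R') (σ := ι)) = RingHom.ker (MvPolynomial.map S.p) from (MvPolynomial.ker_map _).symm] at hx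
      exact hx
    obtain ⟨z, hz⟩ := hx (hle _ hx')
    exact ⟨π₀ P (S.e₂ a) • z, fun L v hv => by
      rw [smul_eq_mul, map_mul, hz L v hv, L.mul_κ, qm_ev P hv]⟩

variable (L₀ : S.Lft) (v₀ : ι → L₀.T') (hv₀ : IsCoord P L₀ v₀)

include hv₀ in
theorem exists_p₁ (z : S.M) : ∃ c, S.p₁ c = 0 ∧ S.e₂ c = 0 ∧
    ∀ (L : S.Lft) (v : ι → L.T'), IsCoord P L v → ev L v c = L.κ z := by
  obtain ⟨x, hx⟩ := ev_surj P hv₀ (L₀.κ z)
  obtain ⟨g, hg⟩ : ∃ c, S.p₁ c = 0 ∧ ev L₀ v₀ c = L₀.κ z := by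
    induction z using TensorProduct.induction_on generalizing x with
    | zero => exact ⟨0, map_zero _, by simp⟩
    | tmul b j =>
      obtain ⟨g, hg⟩ := π₀_surj P b
      obtain ⟨g, rfl⟩ := S.e₁_surj g
      obtain ⟨g, rfl⟩ := S.p₁_surj g
      refine ⟨C (j : S.R') * g, ?_, ?_⟩
      · rw [map_mul, p₁, map_C, show S.p j = 0 from j.2, map_zero, zero_mul]
      · rw [map_mul, L₀.κ_tmul b j (t := ev L₀ v₀ g) (by rw [qm_ev P hv₀]; exact hg)]
        simp
    | add a b ha hb =>
      obtain ⟨xa, hxa⟩ := ev_surj P hv₀ (L₀.κ a)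
      obtain ⟨xb, hxb⟩ := ev_surj P hv₀ (L₀.κ b)
      obtain ⟨c, hc, hc'⟩ := ha xa hxa
      obtain ⟨d, hd, hd'⟩ := hb xb hxb
      exact ⟨c + d, by rw [map_add, hc, hd, add_zero], by rw [map_add, map_add, hc', hd']⟩
  obtain ⟨z', hz'⟩ := exists_of_p₁ P g hg.1
  have hzz : z' = z := L₀.κ_injective ((hz' L₀ v₀ hv₀).symm.trans hg.2)
  subst hzz
  exact ⟨g, hg.1, by rw [e₂, RingHom.comp_apply, hg.1, map_zero], hz'⟩

include hv₀ in
theorem exists_rep (i : MvPolynomial ι k) (hi : π₀ P i = 0) :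
    ∃ x, ev L₀ v₀ x = 0 ∧ S.e₂ x = i := by
  obtain ⟨y, hy⟩ := S.e₁_surj i
  obtain ⟨x, hx⟩ := S.p₁_surj (S.πI P y)
  have h1 : S.e₁ (S.πI P y) = i := by
    have hm : S.ψT P y ∈ maximalIdeal S.R • (⊤ : Submodule S.R S.T) := by
      rw [Ideal.smul_top_eq_map, Submodule.restrictScalars_mem, ← S.q_ker, RingHom.mem_ker, S.q_ψT, hy, hi]
    have h2 := (Submodule.map_smul'' (maximalIdeal S.R) ⊤ (S.sT P) ▸ Submodule.smul_mono le_rfl le_top :
      (maximalIdeal S.R • ⊤ : Submodule S.R S.T).map (S.sT P) ≤ maximalIdeal S.R • ⊤) (Submodule.mem_map_of_mem hm)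
    rw [← S.mem_smul_top] at h2
    show S.e₁ (y - S.sT P (S.ψT P y)) = i
    rw [map_sub, h2, sub_zero, hy]
  obtain ⟨z, hz⟩ := L₀.exists_κ (t := ev L₀ v₀ x) (by rw [m_ev P hv₀, hx, S.ψT_πI])
  obtain ⟨c, -, hc2, hc3⟩ := exists_p₁ P L₀ v₀ hv₀ z
  refine ⟨x - c, by rw [map_sub, hc3 L₀ v₀ hv₀, hz, sub_self], ?_⟩
  rw [map_sub, hc2, sub_zero, e₂, RingHom.comp_apply, hx, h1]

include hv₀ in
theorem ev_eq_zero_of_rep {L : S.Lft} {v : ι → L.T'} (hv : IsCoord P L v) {d : MvPolynomial ι S.R'}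
    (hd : ev L₀ v₀ d = 0) (hde : S.e₂ d = 0) : ev L v d = 0 := by
  let K := LinearMap.ker (S.ψT P).toLinearMap
  have h1 : S.p₁ d ∈ maximalIdeal S.R • K := by
    have h2 := S.mem_smul_top.1 (show S.e₁ (S.p₁ d) = 0 from hde)
    have h3 := Submodule.mem_map_of_mem (f := S.πI P) h2
    rw [Submodule.map_smul'', S.πI_eq P (by rw [← m_ev P hv₀, hd, map_zero])] at h3
    have hle : Submodule.map (S.πI P) ⊤ ≤ K := by
      rintro _ ⟨y, -, rfl⟩
      exact S.ψT_πI P y
    exact Submodule.smul_mono le_rfl hle h3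
  have h4 : ∃ d', ev L v d' = 0 ∧ ev L₀ v₀ d' = 0 ∧ S.p₁ d' = S.p₁ d := by
    generalize hy₀ : S.p₁ d = y₀ at h1 ⊢
    clear hy₀
    induction h1 using Submodule.smul_induction_on' with
    | smul a ha y hy =>
      obtain ⟨a, rfl⟩ := S.p_surj a
      obtain ⟨y, rfl⟩ := S.p₁_surj y
      have hea : S.e' a = 0 := by
        show S.e (S.p a) = 0
        rwa [← RingHom.mem_ker, S.e_ker]
      have key : ∀ (L : S.Lft) (v : ι → L.T'), IsCoord P L v → ev L v (C a * y) = 0 := fun L v hv => by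
        obtain ⟨z, hz⟩ := L.exists_κ (t := ev L v y) (by rw [m_ev P hv]; exact hy)
        rw [map_mul, ← hz, L.mul_κ, qm_ev P hv, e₂, RingHom.comp_apply, p₁, map_C, e₁, map_C]
        rw [show S.e (S.p a) = 0 from hea]
        simp
      exact ⟨C a * y, key L v hv, key L₀ v₀ hv₀, by rw [map_mul, p₁, map_C, Algebra.smul_def]; rfl⟩
    | add x _ y _ hx hy =>
      obtain ⟨a, ha1, ha2, ha3⟩ := hx
      obtain ⟨b, hb1, hb2, hb3⟩ := hy
      exact ⟨a + b, by rw [map_add, ha1, hb1, add_zero], by rw [map_add, ha2, hb2, add_zero],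
        by rw [map_add, ha3, hb3]⟩
  obtain ⟨d', h5, h6, h7⟩ := h4
  obtain ⟨z, hz⟩ := exists_of_p₁ P (d - d') (by rw [map_sub, h7, sub_self])
  have hz0 : z = 0 := L₀.κ_injective (by rw [← hz L₀ v₀ hv₀, map_sub, hd, h6, sub_self, map_zero])
  have := hz L v hv
  rwa [map_sub, h5, sub_zero, hz0, map_zero] at this

/-- a functional describes a lift -/
def Describes (L : S.Lft) (v : ι → L.T') (φ : P.toExtension.Cotangent →ₗ[B₀] S.M) : Prop :=
  IsCoord P L v ∧ ∀ (x : MvPolynomial ι S.R') (i : P.toExtension.ker),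
    ev L₀ v₀ x = 0 → S.e₂ x = (i : P.toExtension.Ring) → ev L v x = L.κ (φ (Algebra.Extension.Cotangent.mk i))

include hv₀ in
theorem exists_describes {L : S.Lft} {v : ι → L.T'} (hv : IsCoord P L v) :
    ∃ φ, Describes P L₀ v₀ L v φ := by
  have hi : ∀ i : P.toExtension.ker, π₀ P (i : P.toExtension.Ring) = 0 := fun i =>
    (CotT.algebraMap_toExtension P (i : P.toExtension.Ring)).symm.trans i.2
  choose r hr hre using fun i : P.toExtension.ker => exists_rep P L₀ v₀ hv₀ _ (hi i)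
  have hm : ∀ i, L.m (ev L v (r i)) = 0 := fun i => by rw [m_ev P hv, ← m_ev P hv₀, hr, map_zero]
  choose Φ hΦ using fun i => L.exists_κ (hm i)
  have huniq : ∀ x (i : P.toExtension.ker), ev L₀ v₀ x = 0 → S.e₂ x = (i : P.toExtension.Ring) →
      ev L v x = L.κ (Φ i) := fun x i hx hxe => by
    rw [hΦ, ← sub_eq_zero, ← map_sub]
    exact ev_eq_zero_of_rep P L₀ v₀ hv₀ hv (by rw [map_sub, hx, hr, sub_self]) (by
      rw [map_sub, hre i, hxe]; exact sub_self _)
  have hadd : ∀ i j, Φ (i + j) = Φ i + Φ j := fun i j => L.κ_injective (by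
    rw [map_add, ← huniq (r i + r j) (i + j) (by rw [map_add, hr, hr, add_zero])
      (by rw [map_add, hre, hre]; rfl), map_add, ← hΦ, ← hΦ])
  have hsmul : ∀ (x : P.toExtension.Ring) i, Φ (x • i) = algebraMap P.toExtension.Ring B₀ x • Φ i := fun x i => by
    obtain ⟨y, hy⟩ := S.e₁_surj (ι := ι) x
    obtain ⟨y, rfl⟩ := S.p₁_surj y
    refine L.κ_injective ?_
    rw [← huniq (y * r i) (x • i) (by rw [map_mul, hr, mul_zero]) (by rw [map_mul]; exact congrArg₂ (fun a b : MvPolynomial ι k => a * b) hy (hre i)),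
      map_mul, ← hΦ, L.mul_κ, qm_ev P hv, show S.e₂ y = x from hy,
      show π₀ P x = algebraMap P.toExtension.Ring B₀ x from (CotT.algebraMap_toExtension P x).symm]
  let Φl : P.toExtension.ker →ₗ[P.toExtension.Ring] S.M :=
    { toFun := Φ, map_add' := hadd, map_smul' := fun x i => (hsmul x i).trans (algebraMap_smul B₀ x (Φ i)) }
  have hle : (P.toExtension.ker • ⊤ : Submodule P.toExtension.Ring P.toExtension.ker) ≤ LinearMap.ker Φl := by
    refine Submodule.smul_le.2 fun a ha i _ => ?_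
    rw [LinearMap.mem_ker, map_smul, ← algebraMap_smul B₀ a (Φl i)]
    rw [show algebraMap P.toExtension.Ring B₀ a = 0 from ha, zero_smul]
  let Φc : P.toExtension.ker.Cotangent →ₗ[P.toExtension.Ring] S.M := Submodule.liftQ _ Φl hle
  let φ : P.toExtension.Cotangent →ₗ[B₀] S.M :=
    { toFun := fun c => Φc c.val
      map_add' := fun c d => map_add Φc c.val d.val
      map_smul' := fun b c => by
        obtain ⟨x, rfl⟩ := CotT.algebraMap_surjective P b
        obtain ⟨i, rfl⟩ := Algebra.Extension.Cotangent.mk_surjective c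
        rw [RingHom.id_apply, algebraMap_smul, ← map_smul]
        show Φl (x • i) = algebraMap P.toExtension.Ring B₀ x • Φl i
        exact hsmul x i }
  exact ⟨φ, hv, fun x i hx hxe => huniq x i hx hxe⟩

include hv₀ in
theorem describes_unique {L : S.Lft} {v : ι → L.T'} {φ φ' : P.toExtension.Cotangent →ₗ[B₀] S.M}
    (h : Describes P L₀ v₀ L v φ) (h' : Describes P L₀ v₀ L v φ') : φ = φ' := by
  refine LinearMap.ext fun c => ?_
  obtain ⟨i, rfl⟩ := Algebra.Extension.Cotangent.mk_surjective c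
  obtain ⟨x, hx, hxe⟩ := exists_rep P L₀ v₀ hv₀ (i : P.toExtension.Ring)
    ((CotT.algebraMap_toExtension P (i : P.toExtension.Ring)).symm.trans i.2)
  exact L.κ_injective ((h.2 x i hx hxe).symm.trans (h'.2 x i hx hxe))

theorem ev_shift {L : S.Lft} {v : ι → L.T'} (hv : IsCoord P L v) (ψ : L0 P →ₗ[B₀] S.M)
    (x : MvPolynomial ι S.R') :
    ev L (fun i => v i + L.κ (ψ (P.cotangentSpaceBasis i))) x = ev L v x + L.κ (CotT.dval P ψ (S.e₂ x)) := by
  let D : MvPolynomial ι k → S.M := fun r => CotT.dval P ψ r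
  have hadd : ∀ a b, D (a + b) = D a + D b := fun a b => CotT.dval_add P ψ a b
  have hmulD : ∀ a b, D (a * b) = π₀ P a • D b + π₀ P b • D a := fun a b => by
    refine (CotT.dval_mul P ψ a b).trans ?_
    rw [CotT.algebraMap_toExtension P a, CotT.algebraMap_toExtension P b]
    rfl
  have hC : ∀ c, D (C c) = 0 := fun c => CotT.dval_C P ψ c
  have hXD : ∀ i, D (X i) = ψ (P.cotangentSpaceBasis i) := fun i => CotT.dval_X P ψ i
  show _ = ev L v x + L.κ (D (S.e₂ x))
  induction x using MvPolynomial.induction_on with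
  | C a =>
    rw [show S.e₂ (C a : MvPolynomial ι S.R') = C (S.e' a) by simp [e₂, e₁, p₁], hC, map_zero, add_zero]
    simp
  | add x y hx hy =>
    simp only [map_add, hadd, hx, hy]
    abel
  | mul_X x i hx =>
    have hX : S.e₂ (X i : MvPolynomial ι S.R') = X i := by simp [e₂, e₁, p₁]
    have hq : π₀ P (X i) = L.qm (v i) := by
      rw [RingHom.comp_apply, hv i, S.q_w]
      exact MvPolynomial.aeval_X _ _
    have h1 : ev L v x * L.κ (D (X i)) = L.κ (π₀ P (S.e₂ x) • D (X i)) := by rw [L.mul_κ, qm_ev P hv]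
    have h2 : v i * L.κ (D (S.e₂ x)) = L.κ (π₀ P (X i) • D (S.e₂ x)) := by rw [L.mul_κ, hq]
    have h3 := L.κ_mul_κ (D (S.e₂ x)) (D (X i))
    rw [map_mul, hx, map_mul, map_mul, hX, eval₂Hom_X', eval₂Hom_X', ← hXD, hmulD, map_add]
    linear_combination h1 + h2 + h3

include hv₀ in
theorem describes_shift {L : S.Lft} {v : ι → L.T'} {φ : P.toExtension.Cotangent →ₗ[B₀] S.M}
    (h : Describes P L₀ v₀ L v φ) (ψ : L0 P →ₗ[B₀] S.M) :
    Describes P L₀ v₀ L (fun i => v i + L.κ (ψ (P.cotangentSpaceBasis i)))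
      (φ + ψ ∘ₗ P.toExtension.cotangentComplex) := by
  refine ⟨fun i => by rw [map_add, L.m_κ, add_zero, h.1 i], fun x i hx hxe => ?_⟩
  rw [ev_shift P h.1, h.2 x i hx hxe, LinearMap.add_apply, map_add, LinearMap.comp_apply,
    Algebra.Extension.cotangentComplex_mk, hxe]
  rfl

include hv₀ in
theorem class_unique {L : S.Lft} {v v' : ι → L.T'} {φ φ' : P.toExtension.Cotangent →ₗ[B₀] S.M}
    (h : Describes P L₀ v₀ L v φ) (h' : Describes P L₀ v₀ L v' φ') :
    homToT1 P S.M φ = homToT1 P S.M φ' := by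
  choose δ hδ using fun i => L.exists_κ (t := v' i - v i) (by rw [map_sub, h.1 i, h'.1 i, sub_self])
  let ψ : L0 P →ₗ[B₀] S.M := P.cotangentSpaceBasis.constr B₀ δ
  have e : (fun i => v i + L.κ (ψ (P.cotangentSpaceBasis i))) = v' := funext fun i => by
    rw [Module.Basis.constr_basis, hδ, add_sub_cancel]
  have h1 := describes_shift P L₀ v₀ hv₀ h ψ
  rw [e] at h1
  rw [describes_unique P L₀ v₀ hv₀ h' h1, map_add, (CotT.homToT1_eq_zero P _).2 ⟨ψ, rfl⟩, add_zero]

theorem describes_map {L L' : S.Lft} (g : L.T' →+* L'.T') (hφ : ∀ a, g (L.φ a) = L'.φ a)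
    (hm : ∀ x, L'.m (g x) = L.m x) {v : ι → L.T'} {φ : P.toExtension.Cotangent →ₗ[B₀] S.M}
    (h : Describes P L₀ v₀ L v φ) : Describes P L₀ v₀ L' (g ∘ v) φ := by
  refine ⟨fun i => (hm _).trans (h.1 i), fun x i hx hxe => ?_⟩
  have e : g.comp (ev L v) = ev L' (g ∘ v) := MvPolynomial.ringHom_ext (fun a => by simp [hφ]) fun j => by simp
  rw [← e, RingHom.comp_apply, h.2 x i hx hxe, L.κ_natural g hφ hm]

include hv₀ in
theorem rel_of_describes {L L' : S.Lft} {v : ι → L.T'} {v' : ι → L'.T'}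
    {φ : P.toExtension.Cotangent →ₗ[B₀] S.M} (h : Describes P L₀ v₀ L v φ) (h' : Describes P L₀ v₀ L' v' φ) :
    L.Rel L' := by
  have hle : RingHom.ker (ev L v) ≤ RingHom.ker (ev L' v') := by
    intro x hx
    rw [RingHom.mem_ker] at hx ⊢
    have hψ : S.ψT P (S.p₁ x) = 0 := by rw [← m_ev P h.1, hx, map_zero]
    obtain ⟨z, hz⟩ := L₀.exists_κ (t := ev L₀ v₀ x) (by rw [m_ev P hv₀, hψ])
    obtain ⟨c, -, hc2, hc3⟩ := exists_p₁ P L₀ v₀ hv₀ z
    let i : P.toExtension.ker := ⟨S.e₂ x, by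
      show algebraMap P.toExtension.Ring B₀ (S.e₂ x) = 0
      refine (CotT.algebraMap_toExtension P _).trans ?_
      rw [show (MvPolynomial.aeval P.val) (S.e₂ x) = π₀ P (S.e₂ x) from rfl, ← qm_ev P h.1, hx, map_zero]⟩
    have hx0 : ev L₀ v₀ (x - c) = 0 := by rw [map_sub, hc3 L₀ v₀ hv₀, hz, sub_self]
    have hxe : S.e₂ (x - c) = (i : P.toExtension.Ring) := by rw [map_sub, hc2, sub_zero]
    have e1 := h.2 _ i hx0 hxe
    have e2 := h'.2 _ i hx0 hxe
    rw [map_sub, hx, hc3 L v h.1, zero_sub, ← map_neg] at e1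
    rw [map_sub, hc3 L' v' h'.1, ← L.κ_injective e1, sub_eq_iff_eq_add, ← map_add, neg_add_cancel, map_zero] at e2
    exact e2
  let g : L.T' →+* L'.T' := (ev L v).liftOfSurjective (ev_surj P h.1) ⟨ev L' v', hle⟩
  have hg : ∀ x, g (ev L v x) = ev L' v' x := fun x => LCIDef.lift_apply _ (ev_surj P h.1) _ x
  refine ⟨g, fun a => by simpa using hg (C a), fun t => ?_⟩
  obtain ⟨x, rfl⟩ := ev_surj P h.1 t
  rw [hg, m_ev P h.1, m_ev P h'.1]

include hv₀ in
theorem exists_lift_of_functional (φ : P.toExtension.Cotangent →ₗ[B₀] S.M) :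
    ∃ (L : S.Lft) (v : ι → L.T'), Describes P L₀ v₀ L v φ := by
  classical
  let Φ : MvPolynomial ι k → S.M := fun i =>
    if h : algebraMap P.toExtension.Ring B₀ i = 0 then φ (Algebra.Extension.Cotangent.mk ⟨i, h⟩) else 0
  have hI : ∀ y, algebraMap P.toExtension.Ring B₀ (S.e₁ (S.πI P y)) = 0 := fun y => by
    refine (CotT.algebraMap_toExtension P _).trans ?_
    rw [show (MvPolynomial.aeval P.val) (S.e₁ (S.πI P y)) = π₀ P (S.e₁ (S.πI P y)) from rfl, ← S.q_ψT, S.ψT_πI,
      map_zero]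
  let G : MvPolynomial ι S.R' → P.toExtension.ker := fun x => ⟨S.e₁ (S.πI P (S.p₁ x)), hI _⟩
  letI := L₀.φ.toAlgebra
  haveI : Module.Flat S.R' L₀.T' := L₀.flat
  have hG : ∀ (a : S.R') x, G (a • x) = (algebraMap k P.toExtension.Ring (S.e' a)) • G x := fun a x => by
    apply Subtype.ext
    show S.e₁ (S.πI P (S.p₁ (a • x))) = algebraMap k (MvPolynomial ι k) (S.e' a) * S.e₁ (S.πI P (S.p₁ x))
    rw [Algebra.smul_def, map_mul, show S.p₁ (algebraMap S.R' (MvPolynomial ι S.R') a) * S.p₁ x = S.p a • S.p₁ x by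
      rw [Algebra.smul_def]; simp [p₁], map_smul, Algebra.smul_def, map_mul]
    congr 1
    simp [e₁]
  let θ : MvPolynomial ι S.R' →ₗ[S.R'] L₀.T' :=
    { toFun := fun x => ev L₀ v₀ x + L₀.κ (φ (Algebra.Extension.Cotangent.mk (G x)))
      map_add' := fun x y => by
        have : G (x + y) = G x + G y := Subtype.ext (by
          show S.e₁ (S.πI P (S.p₁ (x + y))) = S.e₁ (S.πI P (S.p₁ x)) + S.e₁ (S.πI P (S.p₁ y))
          simp only [map_add])
        rw [this]
        simp only [map_add]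
        abel
      map_smul' := fun a x => by
        have h1 : φ (Algebra.Extension.Cotangent.mk (G (a • x))) =
            algebraMap k B₀ (S.e' a) • φ (Algebra.Extension.Cotangent.mk (G x)) := by
          rw [hG, LinearMap.map_smul, ← algebraMap_smul B₀ (algebraMap k P.toExtension.Ring (S.e' a)),
            LinearMap.map_smul, ← IsScalarTower.algebraMap_apply]
        rw [RingHom.id_apply, h1, ← L₀.φ_κ]
        refine Eq.trans ?_ (Algebra.smul_def a _).symm
        rw [show algebraMap S.R' L₀.T' a = L₀.φ a from rfl, mul_add, Algebra.smul_def, map_mul]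
        simp }
  have hθker : ∀ x, θ x = 0 → S.ψT P (S.p₁ x) = 0 := fun x hx => by
    have := congrArg L₀.m hx
    rw [show θ x = ev L₀ v₀ x + L₀.κ (φ (Algebra.Extension.Cotangent.mk (G x))) from rfl, map_add, L₀.m_κ,
      add_zero, m_ev P hv₀, map_zero] at this
    exact this
  let I' : Ideal (MvPolynomial ι S.R') :=
    { carrier := {x | θ x = 0}
      zero_mem' := map_zero θ
      add_mem' := fun {x y} (hx : θ x = 0) (hy : θ y = 0) => show θ (x + y) = 0 by rw [map_add, hx, hy, add_zero]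
      smul_mem' := fun y x (hx : θ x = 0) => by
        show θ (y * x) = 0
        have h0 : S.ψT P (S.p₁ x) = 0 := hθker x hx
        have hGy : G (y * x) = (show P.toExtension.Ring from S.e₂ y) • G x := by
          apply Subtype.ext
          show S.e₁ (S.πI P (S.p₁ (y * x))) = S.e₂ y * S.e₁ (S.πI P (S.p₁ x))
          rw [map_mul, S.πI_eq P (by rw [map_mul, h0, mul_zero]), S.πI_eq P h0, map_mul]
          rfl
        show ev L₀ v₀ (y * x) + L₀.κ (φ (Algebra.Extension.Cotangent.mk (G (y * x)))) = 0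
        rw [hGy, map_smul, ← algebraMap_smul B₀ (show P.toExtension.Ring from S.e₂ y), map_smul, map_mul,
          eq_neg_of_add_eq_zero_left (show ev L₀ v₀ x + L₀.κ (φ (Algebra.Extension.Cotangent.mk (G x))) = 0 from hx),
          mul_neg, L₀.mul_κ, qm_ev P hv₀, neg_add_eq_sub, sub_eq_zero]
        congr 2
        exact CotT.algebraMap_toExtension P _ }
  have hθs : Function.Surjective θ := fun t => by
    obtain ⟨y, hy⟩ := S.ψT_surj P (L₀.m t)
    obtain ⟨x, rfl⟩ := S.p₁_surj y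
    have hm0 : L₀.m (t - θ x) = 0 := by
      rw [show θ x = ev L₀ v₀ x + L₀.κ (φ (Algebra.Extension.Cotangent.mk (G x))) from rfl, map_sub, map_add,
        L₀.m_κ, add_zero, m_ev P hv₀, hy, sub_self]
    obtain ⟨z, hz⟩ := L₀.exists_κ hm0
    obtain ⟨c, hc1, -, hc3⟩ := exists_p₁ P L₀ v₀ hv₀ z
    refine ⟨x + c, ?_⟩
    have hθc : θ c = L₀.κ z := by
      have hG0 : G c = 0 := Subtype.ext (by
        show S.e₁ (S.πI P (S.p₁ c)) = 0
        rw [hc1, map_zero, map_zero])
      show ev L₀ v₀ c + L₀.κ (φ (Algebra.Extension.Cotangent.mk (G c))) = L₀.κ z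
      rw [hG0, map_zero, map_zero, map_zero, add_zero, hc3 L₀ v₀ hv₀]
    rw [map_add, hθc, hz, add_sub_cancel]
  let T' := MvPolynomial ι S.R' ⧸ I'
  let lin : T' ≃ₗ[S.R'] L₀.T' :=
    ((Submodule.Quotient.restrictScalarsEquiv S.R' I').symm.trans
      (Submodule.quotEquivOfEq _ _ (by ext; rfl))).trans (θ.quotKerEquivOfSurjective hθs)
  let mT : T' →+* S.T := Ideal.Quotient.lift I' ((S.ψT P).toRingHom.comp S.p₁) fun x hx => hθker x hx
  let L : S.Lft :=
    { T' := T'
      φ := algebraMap S.R' T'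
      flat := RingHom.flat_algebraMap_iff.2 (Module.Flat.of_linearEquiv lin)
      m := mT
      m_surj := fun t => by
        obtain ⟨y, rfl⟩ := S.ψT_surj P t
        obtain ⟨x, rfl⟩ := S.p₁_surj y
        exact ⟨Ideal.Quotient.mk _ x, rfl⟩
      m_φ := fun a => by
        show S.ψT P (MvPolynomial.map S.p (C a)) = algebraMap S.R S.T (S.p a)
        simp [ψT]
      m_ker := by
        refine le_antisymm (fun y hy => ?_) ?_
        · obtain ⟨x, rfl⟩ := Ideal.Quotient.mk_surjective y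
          obtain ⟨z, hz⟩ := L₀.exists_κ (t := θ x) (by
            rw [show θ x = ev L₀ v₀ x + L₀.κ (φ (Algebra.Extension.Cotangent.mk (G x))) from rfl, map_add, L₀.m_κ,
              add_zero, m_ev P hv₀]
            exact hy)
          obtain ⟨c, hc1, -, hc3⟩ := exists_p₁ P L₀ v₀ hv₀ z
          have hmem : x - c ∈ I' := by
            show θ (x - c) = 0
            have hG0 : G c = 0 := Subtype.ext (by
              show S.e₁ (S.πI P (S.p₁ c)) = 0
              rw [hc1, map_zero, map_zero])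
            rw [map_sub, ← hz, show θ c = ev L₀ v₀ c + L₀.κ (φ (Algebra.Extension.Cotangent.mk (G c))) from rfl,
              hG0, map_zero, map_zero, map_zero, add_zero, hc3 L₀ v₀ hv₀, sub_self]
          rw [(Ideal.Quotient.eq).2 hmem]
          have hc' : c ∈ S.J.map (C (R := S.R') (σ := ι)) := by
            rw [show S.J.map (C (R := S.R') (σ := ι)) = RingHom.ker (MvPolynomial.map S.p) from (MvPolynomial.ker_map _).symm]
            exact hc1
          have := Ideal.mem_map_of_mem (Ideal.Quotient.mk I') hc'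
          rw [Ideal.map_map] at this
          exact this
        · rw [Ideal.map_le_iff_le_comap]
          intro j hj
          show S.ψT P (MvPolynomial.map S.p (C j)) = 0
          simp [show S.p j = 0 from hj] }
  let v : ι → L.T' := fun i => Ideal.Quotient.mk I' (X i)
  have hev : ev L v = Ideal.Quotient.mk I' := MvPolynomial.ringHom_ext (fun a => by simp; rfl) fun i => by simp [v]
  have hcoord : IsCoord P L v := fun i => by
    show S.ψT P (MvPolynomial.map S.p (X i)) = S.w P i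
    simp [ψT]
  refine ⟨L, v, hcoord, fun x i hx hxe => ?_⟩
  obtain ⟨c, hc1, -, hc3⟩ := exists_p₁ P L₀ v₀ hv₀ (φ (Algebra.Extension.Cotangent.mk i))
  rw [← hc3 L v hcoord, hev]
  refine Ideal.Quotient.eq.2 ?_
  show θ (x - c) = 0
  have hGx : G x = i := Subtype.ext (by
    show S.e₁ (S.πI P (S.p₁ x)) = _
    rw [S.πI_eq P (by rw [← m_ev P hv₀, hx, map_zero])]
    exact hxe)
  have hG0 : G c = 0 := Subtype.ext (by
    show S.e₁ (S.πI P (S.p₁ c)) = 0
    rw [hc1, map_zero, map_zero])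
  rw [map_sub]
  show (ev L₀ v₀ x + L₀.κ (φ (Algebra.Extension.Cotangent.mk (G x)))) -
    (ev L₀ v₀ c + L₀.κ (φ (Algebra.Extension.Cotangent.mk (G c)))) = 0
  rw [hGx, hG0, map_zero, map_zero, map_zero, add_zero, hx, zero_add, hc3 L₀ v₀ hv₀, sub_self]

include hv₀ in
/-- lifts up to isomorphism are classified by `T¹` -/
theorem exists_classify : ∃ F : S.Lft → T1 P S.M,
    (∀ L L' : S.Lft, F L = F L' ↔ L.Rel L') ∧ Function.Surjective F := by
  choose v hv using fun L : S.Lft => exists_coord P L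
  choose φ hφ using fun L : S.Lft => exists_describes P L₀ v₀ hv₀ (hv L)
  refine ⟨fun L => homToT1 P S.M (φ L), fun L L' => ⟨fun h => ?_, ?_⟩, fun t => ?_⟩
  · obtain ⟨ψ, hψ⟩ := (CotT.homToT1_eq_zero P (φ L' - φ L)).1 (by
      refine (LinearMap.map_sub (homToT1 P S.M) (φ L') (φ L)).trans ?_
      exact sub_eq_zero.2 h.symm)
    have h1 := describes_shift P L₀ v₀ hv₀ (hφ L) ψ
    rw [hψ] at h1
    have hh : φ L + (φ L' - φ L) = φ L' := by abel
    rw [hh] at h1
    exact rel_of_describes P L₀ v₀ hv₀ h1 (hφ L')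
  · rintro ⟨g, hg, hgm⟩
    exact class_unique P L₀ v₀ hv₀ (describes_map P L₀ v₀ g hg hgm (hφ L)) (hφ L')
  · obtain ⟨f, rfl⟩ := CotT.homToT1_surjective P S.M t
    obtain ⟨L, v', h'⟩ := exists_lift_of_functional P L₀ v₀ hv₀ f
    exact ⟨L, class_unique P L₀ v₀ hv₀ (hφ L) h'⟩

end Classify

end Small

end Groth.Agent.RigidDef
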